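import Cfsg.Agent.Lib.Fusion.PSUSplit
import Cfsg.Agent.S0280

/-!
The Borel subgroup of `SU₃(q)` in the split basis.
-/

set_option autoImplicit false
set_option linter.unusedSectionVars false

namespace CfsgLib.PSU3Min

open Matrix CfsgLib.PSUBorel

variable {F : Type*} [Field F] [Fintype F] (c : Conj F)

local notation "G" => SUs c 3

/-- The levels of the Borel subgroup. -/
abbrev lev : Fin 3 → ℕ := fun i => (i : ℕ)

/-- The Borel subgroup. -/
abbrev BG : Subgroup G := Par c lev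

/-- Its unipotent radical. -/
abbrev UG : Subgroup G := UU c 3

theorem mem_BG_iff {g : G} : g ∈ BG c ↔ g.1.1 1 0 = 0 ∧ g.1.1 2 0 = 0 ∧ g.1.1 2 1 = 0 := by
  constructor
  · exact fun h => ⟨h 1 0 (by decide), h 2 0 (by decide), h 2 1 (by decide)⟩
  · rintro ⟨h10, h20, h21⟩ i j hij
    fin_cases i <;> fin_cases j <;> simp at hij <;> assumption

theorem UG_le : UG c ≤ BG c := UU_le_Par c fun _ _ h => h

theorem mul00 {g h : G} (hh : h ∈ BG c) : (g * h).1.1 0 0 = g.1.1 0 0 * h.1.1 0 0 := by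
  obtain ⟨a1, a2, -⟩ := (mem_BG_iff c).mp hh
  simp [coe_mul, Matrix.mul_apply, Fin.sum_univ_three, a1, a2]

theorem mul11 {g h : G} (hg : g ∈ BG c) (hh : h ∈ BG c) : (g * h).1.1 1 1 = g.1.1 1 1 * h.1.1 1 1 := by
  obtain ⟨a1, -, -⟩ := (mem_BG_iff c).mp hg
  obtain ⟨-, -, a2⟩ := (mem_BG_iff c).mp hh
  simp [coe_mul, Matrix.mul_apply, Fin.sum_univ_three, a1, a2]

theorem mul01 {g h : G} (hh : h ∈ BG c) :
    (g * h).1.1 0 1 = g.1.1 0 0 * h.1.1 0 1 + g.1.1 0 1 * h.1.1 1 1 := by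
  obtain ⟨-, -, a⟩ := (mem_BG_iff c).mp hh
  simp [coe_mul, Matrix.mul_apply, Fin.sum_univ_three, a]

theorem mul02 (g h : G) :
    (g * h).1.1 0 2 = g.1.1 0 0 * h.1.1 0 2 + g.1.1 0 1 * h.1.1 1 2 + g.1.1 0 2 * h.1.1 2 2 := by
  simp [coe_mul, Matrix.mul_apply, Fin.sum_univ_three]

/-- The diagonal of an element of the Borel subgroup. -/
theorem diag_entries {g : G} (hg : g ∈ BG c) :
    g.1.1 0 0 ≠ 0 ∧ g.1.1 2 2 = (c.σ (g.1.1 0 0))⁻¹ ∧ g.1.1 1 1 = c.σ (g.1.1 0 0) / g.1.1 0 0 := by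
  obtain ⟨h10, h20, h21⟩ := (mem_BG_iff c).mp hg
  have e := cond_apply c g.2 0 2
  simp [Fin.sum_univ_three, Fin.rev, h20, h21] at e
  have h0 : g.1.1 0 0 ≠ 0 := left_ne_zero_of_mul_eq_one e
  have e' := congrArg c.σ e
  rw [map_mul, c.invol, map_one] at e'
  have h2 : g.1.1 2 2 = (c.σ (g.1.1 0 0))⁻¹ := eq_inv_of_mul_eq_one_right e'
  refine ⟨h0, h2, ?_⟩
  have hd := g.1.2
  rw [Matrix.det_fin_three, h10, h20, h21, h2] at hd
  simp at hd
  have hs : c.σ (g.1.1 0 0) ≠ 0 := (map_ne_zero c.σ).mpr h0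
  field_simp at hd ⊢
  linear_combination hd

/-- An element of the Borel subgroup with corner entry one is unipotent. -/
theorem mem_UG_of_corner {g : G} (hg : g ∈ BG c) (h : g.1.1 0 0 = 1) : g ∈ UG c := by
  obtain ⟨-, h2, h1⟩ := diag_entries c hg
  rw [h, map_one] at h1 h2
  refine mem_UU_of_diag c hg fun i => ?_
  fin_cases i
  · exact h
  · simpa using h1
  · simpa using h2

theorem UG_rel {u : G} (hu : u ∈ UG c) :
    u.1.1 1 2 = -c.σ (u.1.1 0 1) ∧
      u.1.1 0 2 + c.σ (u.1.1 0 2) + u.1.1 0 1 * c.σ (u.1.1 0 1) = 0 := by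
  obtain ⟨h10, -, h21⟩ := (mem_BG_iff c).mp (UG_le c hu)
  have e := cond_apply c u.2 0 1
  have e' := cond_apply c u.2 0 0
  simp [Fin.sum_univ_three, Fin.rev, UU_diag c hu, h10] at e e'
  have := congrArg c.σ e
  rw [map_add, c.invol, map_zero] at this
  exact ⟨by linear_combination this, by linear_combination e'⟩

/-- Trivial intersection: a nontrivial element of the radical has a unique fixed point. -/
theorem ti {u g : G} (hu : u ∈ UG c) (hu1 : u ≠ 1) (h : g⁻¹ * u * g ∈ UG c) : g ∈ BG c := by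
  obtain ⟨u', hu', hcm⟩ : ∃ u' ∈ UG c, u * g = g * u' := ⟨_, h, by group⟩
  have e : ∀ i : Fin 3, (u * g).1.1 i 0 = (g * u').1.1 i 0 := fun i => by rw [hcm]
  obtain ⟨u10, u20, u21⟩ := (mem_BG_iff c).mp (UG_le c hu)
  obtain ⟨v10, v20, -⟩ := (mem_BG_iff c).mp (UG_le c hu')
  have e0 := e 0
  have e1 := e 1
  simp [coe_mul, Matrix.mul_apply, Fin.sum_univ_three, UU_diag c hu, UU_diag c hu', u10, v10, v20] at e0 e1
  obtain ⟨hrel, -⟩ := UG_rel c hu
  have hiso : ∑ l, c.σ (g.1.1 l.rev 0) * g.1.1 l 0 = 0 := by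
    have hc1 : (g.1.1)ᵀ * aJ F 3 * g.1.1.map c.σ = aJ F 3 := by
      have h1 : g.1.1 * (aJ F 3 * (g.1.1.map c.σ)ᵀ * aJ F 3) = 1 := by
        rw [← Matrix.mul_assoc, ← Matrix.mul_assoc, show g.1.1 * aJ F 3 * (g.1.1.map c.σ)ᵀ = aJ F 3 from g.2,
          aJ_sq]
      have h2 := mul_eq_one_comm.mp h1
      have h4 := congrArg (fun M => aJ F 3 * M) h2
      simp only [← Matrix.mul_assoc, aJ_sq, Matrix.one_mul, Matrix.mul_one] at h4
      have h3 := congrArg Matrix.transpose h4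
      simpa only [Matrix.transpose_mul, Matrix.transpose_transpose, aJ_transpose, Matrix.mul_assoc] using h3
    have e2 := congrFun (congrFun hc1 0) 0
    rw [Matrix.mul_apply] at e2
    simp [Fin.sum_univ_three, aJ, Matrix.mul_apply, Fin.rev] at e2 ⊢
    linear_combination e2
  simp [Fin.sum_univ_three, Fin.rev] at hiso
  have hz : g.1.1 2 0 = 0 := by
    by_contra hz
    have h12 : u.1.1 1 2 = 0 := e1.resolve_right hz
    have h01 : u.1.1 0 1 = 0 := by
      rw [h12] at hrel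
      simpa using hrel
    rw [h01] at e0
    have h02 : u.1.1 0 2 = 0 := (mul_eq_zero.mp (by linear_combination e0 :
      u.1.1 0 2 * g.1.1 2 0 = 0)).resolve_right hz
    refine hu1 (SUs_ext c (Matrix.ext fun i j => ?_))
    rw [coe_one]
    fin_cases i <;> fin_cases j <;>
      simp [UU_diag c hu, u10, u20, u21, h01, h02, h12]
  rw [hz] at hiso
  simp at hiso
  have h1 : g.1.1 1 0 = 0 := by tauto
  have h21 : g.1.1 2 1 = 0 := by
    have e22 := cond_apply c g.2 2 2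
    simpa [Fin.sum_univ_three, Fin.rev, hz] using e22
  exact (mem_BG_iff c).mpr ⟨h1, hz, h21⟩

theorem conj_UG {g u : G} (hg : g ∈ BG c) (hu : u ∈ UG c) : g * u * g⁻¹ ∈ UG c := Rad_conj c hg hu

/-- The transvection group of the radical. -/
def ZG : Subgroup G :=
  PSpBorel.ofClosed {u | u ∈ UG c ∧ u.1.1 0 1 = 0} ⟨one_mem _, by simp [coe_one]⟩
    (fun u hu v hv => ⟨mul_mem hu.1 hv.1, by
      rw [mul01 c (UG_le c hv.1), hu.2, hv.2, mul_zero, zero_mul, add_zero]⟩)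

theorem mem_ZG {u : G} : u ∈ ZG c ↔ u ∈ UG c ∧ u.1.1 0 1 = 0 := Iff.rfl

theorem ZG_le : ZG c ≤ UG c := fun _ h => h.1

/-- A diagonal element. -/
def dg (x : Fˣ) : G :=
  ⟨⟨Matrix.diagonal ![(x : F), c.σ x / x, (c.σ x)⁻¹], by
    have hs : c.σ (x : F) ≠ 0 := (map_ne_zero c.σ).mpr x.ne_zero
    have := x.ne_zero
    simp [Fin.prod_univ_three]
    field_simp⟩, by
    show Cond c (Matrix.diagonal ![(x : F), c.σ x / x, (c.σ x)⁻¹])
    have hs : c.σ (x : F) ≠ 0 := (map_ne_zero c.σ).mpr x.ne_zero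
    have := x.ne_zero
    ext i j
    rw [Matrix.mul_apply]
    simp only [mul_aJ]
    fin_cases i <;> fin_cases j <;> simp [aJ, Fin.sum_univ_three, c.invol, Fin.rev] <;> field_simp⟩

theorem dg_mem (x : Fˣ) : dg c x ∈ BG c :=
  (mem_BG_iff c).mpr ⟨by simp [dg], by simp [dg], by simp [dg]⟩

/-- The corner entry. -/
def corner : BG c →* Fˣ where
  toFun g := Units.mk0 (g.1.1.1 0 0) (diag_entries c g.2).1
  map_one' := Units.ext rfl
  map_mul' g h := Units.ext (mul00 c h.2)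

theorem corner_surj : Function.Surjective (corner c) := fun x =>
  ⟨⟨dg c x, dg_mem c x⟩, Units.ext (by simp [corner, dg])⟩

theorem corner_ker : (corner c).ker = (UG c).subgroupOf (BG c) := by
  ext g
  rw [MonoidHom.mem_ker, Subgroup.mem_subgroupOf, Units.ext_iff]
  exact ⟨fun h => mem_UG_of_corner c g.2 h, fun h => UU_diag c h 0⟩

theorem card_units : Nat.card Fˣ = c.q ^ 2 - 1 := by
  rw [Nat.card_units, Nat.card_eq_fintype_card, c.card]

variable (p : ℕ) [Fact p.Prime] [CharP F p]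

theorem exists_pow_q : ∃ f : ℕ, 0 < f ∧ c.q = p ^ f := by
  obtain ⟨n, hp, hn⟩ := FiniteField.card F p
  rw [c.card] at hn
  obtain ⟨f, -, hf⟩ := (Nat.dvd_prime_pow hp).mp (hn ▸ dvd_pow_self c.q two_ne_zero)
  refine ⟨f, Nat.pos_of_ne_zero fun h => ?_, hf⟩
  rw [h, pow_zero] at hf
  have := c.one_lt
  omega

theorem not_dvd_add_one {m : ℕ} (hm : p ∣ m) : ¬ p ∣ m + 1 := fun h =>
  (Fact.out : p.Prime).not_dvd_one ((Nat.dvd_add_right hm).mp h)

theorem not_dvd_sub_one {m : ℕ} (hm : p ∣ m) (h0 : 1 ≤ m) : ¬ p ∣ m - 1 := fun h =>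
  (Fact.out : p.Prime).not_dvd_one (by
    have := Nat.dvd_sub hm h
    rwa [Nat.sub_sub_self h0] at this)

include p in
theorem p_dvd_q : p ∣ c.q := by
  obtain ⟨f, hf, e⟩ := exists_pow_q c p
  exact e ▸ dvd_pow_self p hf.ne'

include p in
theorem not_dvd_sq_sub_one : ¬ p ∣ c.q ^ 2 - 1 :=
  not_dvd_sub_one p ((p_dvd_q c p).trans (dvd_pow_self _ two_ne_zero))
    (Nat.one_le_pow _ _ (by have := c.one_lt; omega))

theorem card_G : Nat.card G = c.q ^ 3 * ((c.q ^ 2 - 1) * (c.q ^ 3 + 1)) := by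
  obtain ⟨E⟩ := exists_iso c (n := 3)
  rw [Nat.card_congr E.toEquiv, Subgroup.card_eq_card_quotient_mul_card_subgroup (Subgroup.center _),
    Cfsg.Agent.S0280.center_card c.card 3 (by norm_num)]
  have h := Cfsg.Agent.S0280.result c.card 3 (by norm_num)
  norm_num [Finset.prod_range_succ, Nat.even_iff] at h
  have hq : 0 < c.q + 1 := by omega
  refine Nat.eq_of_mul_eq_mul_left hq ?_
  linear_combination h

include p in
theorem card_UG : Nat.card (UG c) = c.q ^ 3 := by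
  classical
  have hc : Cover c p (MonoidHom.id G) :=
    { surj := Function.surjective_id
      central := fun z hz => by
        rw [MonoidHom.mem_ker, MonoidHom.id_apply] at hz
        rw [hz]; exact one_mem _
      m := 1
      cop := Nat.coprime_one_left p
      pow_m := fun z hz => by rw [pow_one]; exact hz }
  obtain ⟨S, hS⟩ := exists_sylow c p hc
  rw [Subgroup.map_id] at hS
  rw [show Nat.card (UG c) = Nat.card (S : Subgroup G) by rw [hS]]
  obtain ⟨f, hf0, hf⟩ := exists_pow_q c p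
  obtain ⟨k, hk⟩ := IsPGroup.iff_card.mp S.2
  have hdvd := Subgroup.card_subgroup_dvd_card (S : Subgroup G)
  have hidx := S.not_dvd_index
  have hm := (S : Subgroup G).card_mul_index
  rw [card_G, hk] at hdvd hm
  have hpq := p_dvd_q c p
  have hcop : ∀ j, Nat.Coprime (p ^ j) ((c.q ^ 2 - 1) * (c.q ^ 3 + 1)) := fun j =>
    Nat.Coprime.pow_left _ ((Fact.out : p.Prime).coprime_iff_not_dvd.mpr fun h => by
      rcases (Fact.out : p.Prime).dvd_mul.mp h with h | h
      · exact not_dvd_sq_sub_one c p h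
      · exact not_dvd_add_one p (hpq.trans (dvd_pow_self _ three_ne_zero)) h)
  have h1 : p ^ k ∣ c.q ^ 3 := (hcop k).dvd_of_dvd_mul_right hdvd
  have h2 : c.q ^ 3 ∣ p ^ k := by
    rw [hf, ← pow_mul]
    refine (Nat.Coprime.pow_left (f * 3) ((Fact.out : p.Prime).coprime_iff_not_dvd.mpr hidx)).dvd_of_dvd_mul_right ?_
    rw [hm, hf, ← pow_mul]
    exact dvd_mul_right _ _
  rw [hk]
  exact Nat.dvd_antisymm h1 h2

include p in
theorem card_BG : Nat.card (BG c) = c.q ^ 3 * (c.q ^ 2 - 1) := by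
  rw [← Subgroup.card_mul_index (corner c).ker, Subgroup.index_ker, MonoidHom.range_eq_top.mpr (corner_surj c),
    Subgroup.card_top, card_units c, corner_ker, Nat.card_congr (Subgroup.subgroupOfEquivOfLe (UG_le c)).toEquiv,
    card_UG c p]

include p in
theorem index_BG : (BG c).index = c.q ^ 3 + 1 := by
  have h := (BG c).card_mul_index
  rw [card_BG c p, card_G] at h
  have hq := c.one_lt
  have hpos : 0 < c.q ^ 3 * (c.q ^ 2 - 1) :=
    Nat.mul_pos (pow_pos (by omega) 3) (Nat.sub_pos_of_lt (Nat.one_lt_pow two_ne_zero hq))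
  exact Nat.eq_of_mul_eq_mul_left hpos (h.trans (by ring))

include p in
theorem mem_UG_of_ppow {g : G} (hg : g ∈ BG c) {k : ℕ} (h : g ^ p ^ k = 1) : g ∈ UG c := by
  refine mem_UG_of_corner c hg ?_
  have h1 : (corner c ⟨g, hg⟩) ^ p ^ k = 1 := by
    rw [← map_pow, show (⟨g, hg⟩ : BG c) ^ p ^ k = 1 from Subtype.ext h, map_one]
  have h2 : (corner c ⟨g, hg⟩) ^ (c.q ^ 2 - 1) = 1 := by rw [← card_units c]; exact pow_card_eq_one'
  have h3 := pow_gcd_eq_one.mpr ⟨h1, h2⟩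
  rw [((Fact.out : p.Prime).coprime_iff_not_dvd.mpr (not_dvd_sq_sub_one c p)).pow_left k |>.gcd_eq_one,
    pow_one] at h3
  exact congrArg Units.val h3

include p in
theorem exists_ppow {u : G} (hu : u ∈ UG c) : ∃ k : ℕ, u ^ p ^ k = 1 := by
  obtain ⟨k, hk⟩ := isPGroup_UU c p ⟨u, hu⟩
  exact ⟨k, congrArg Subtype.val hk⟩

theorem card_center : Nat.card (Subgroup.center G) ∣ 3 ∧ Nat.card (Subgroup.center G) ∣ c.q + 1 := by
  obtain ⟨E⟩ := exists_iso c (n := 3)
  rw [Nat.card_congr (Subgroup.centerCongr E).toEquiv, Cfsg.Agent.S0280.center_card c.card 3 (by norm_num)]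
  exact ⟨Nat.gcd_dvd_left _ _, Nat.gcd_dvd_right _ _⟩

theorem center_le_BG : Subgroup.center G ≤ BG c := by
  intro z hz
  obtain ⟨b, hb0, hb⟩ := c.exists_antifixed
  have hu : r3 c 0 b (by rw [map_zero, mul_zero, add_zero, hb, add_neg_cancel]) ∈ UG c := by
    refine mem_UU_of_diag c ((mem_BG_iff c).mpr ⟨?_, ?_, ?_⟩) fun i => ?_
    · simp [r3, m3]
    · simp [r3, m3]
    · simp [r3, m3]
    · fin_cases i <;> simp [r3, m3]
  refine ti c hu (fun e => hb0 ?_) ?_
  · have := congrArg (fun A : G => A.1.1 0 2) e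
    simpa [r3, m3, coe_one] using this
  · rw [mul_assoc, Subgroup.mem_center_iff.mp hz, ← mul_assoc, inv_mul_cancel, one_mul]
    exact hu

end CfsgLib.PSU3Min
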