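import Mathlib

/-!
Counting lemmas for a subgroup acting on the cosets of another subgroup.
-/

set_option autoImplicit false

namespace CfsgLib.PSU3Min

variable {G : Type*} [Group G] [Finite G]

/-- If every coset of `B` is the only one fixed by some `p`-element of `H`, then `H` is transitive
on the cosets. -/
theorem transitive_of_unique_fix (B H : Subgroup G) (p : ℕ) [Fact p.Prime]
    (hyp : ∀ g : G, ∃ x ∈ H, (∃ k : ℕ, x ^ p ^ k = 1) ∧ g⁻¹ * x * g ∈ B ∧
      ∀ g' : G, g'⁻¹ * x * g' ∈ B → g⁻¹ * g' ∈ B) :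
    ∀ g : G, ∃ h ∈ H, ∃ b ∈ B, g = h * b := by
  classical
  intro g
  let O : Set (G ⧸ B) := MulAction.orbit H ((1 : G) : G ⧸ B)
  suffices hg : (g : G ⧸ B) ∈ O by
    obtain ⟨h, hh⟩ := MulAction.mem_orbit_iff.mp hg
    refine ⟨h, h.2, (h : G)⁻¹ * g, ?_, (mul_inv_cancel_left _ _).symm⟩
    have h' : (((h : G) : G) : G ⧸ B) = (g : G ⧸ B) := by
      rw [← hh]; exact congrArg QuotientGroup.mk (mul_one (h : G)).symm
    exact QuotientGroup.eq.mp h'
  by_contra hgO
  have hinv : ∀ x ∈ H, ∀ y : G ⧸ B, y ∈ O → x • y ∈ O := by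
    rintro x hx y ⟨h, rfl⟩
    exact ⟨⟨x, hx⟩ * h, mul_smul (⟨x, hx⟩ : H) h _⟩
  have hfix : ∀ (x w : G), x • (w : G ⧸ B) = (w : G ⧸ B) → w⁻¹ * x * w ∈ B := fun x w h => by
    have h' : ((x * w : G) : G ⧸ B) = (w : G ⧸ B) := h
    have := QuotientGroup.eq.mp h'.symm
    simpa [mul_assoc] using this
  -- the number of points of the orbit, modulo `p`, counted at a point
  have key : ∀ v : G, Nat.card O ≡ (if (v : G ⧸ B) ∈ O then 1 else 0) [MOD p] := by
    intro v
    obtain ⟨x, hxH, ⟨k, hk⟩, hxv, hu⟩ := hyp v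
    let P := Subgroup.zpowers x
    have hP : IsPGroup p P := by
      intro ⟨z, hz⟩
      obtain ⟨i, rfl⟩ := Subgroup.mem_zpowers_iff.mp hz
      refine ⟨k, Subtype.ext ?_⟩
      show (x ^ i) ^ p ^ k = 1
      rw [← zpow_natCast, zpow_comm, zpow_natCast, hk, one_zpow]
    let S : SubMulAction P (G ⧸ B) :=
      { carrier := O
        smul_mem' := fun a y hy => hinv a.1 (Subgroup.zpowers_le.mpr hxH a.2) y hy }
    have h1 := hP.card_modEq_card_fixedPoints S
    refine h1.trans ?_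
    have hall : ∀ y : S, y ∈ MulAction.fixedPoints P S → (y : G ⧸ B) = (v : G ⧸ B) := by
      rintro ⟨y, hyO⟩ hy
      obtain ⟨w, rfl⟩ := QuotientGroup.mk_surjective y
      have := congrArg Subtype.val (hy ⟨x, Subgroup.mem_zpowers x⟩)
      exact (QuotientGroup.eq.mpr (hu w (hfix x w this))).symm
    split_ifs with hv
    · have hmem : (⟨(v : G ⧸ B), hv⟩ : S) ∈ MulAction.fixedPoints P S := by
        intro a
        apply Subtype.ext
        show (a : G) • (v : G ⧸ B) = v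
        obtain ⟨i, hi⟩ := Subgroup.mem_zpowers_iff.mp a.2
        rw [← hi]
        have hx : x • (v : G ⧸ B) = v := by
          show ((x * v : G) : G ⧸ B) = v
          refine (QuotientGroup.eq.mpr ?_).symm
          simpa [mul_assoc] using hxv
        exact MulAction.mem_stabilizer_iff.mp
          (Subgroup.zpow_mem (MulAction.stabilizer G (v : G ⧸ B)) hx i)
      haveI : Subsingleton (MulAction.fixedPoints P S) := ⟨fun a b =>
        Subtype.ext (Subtype.ext ((hall a.1 a.2).trans (hall b.1 b.2).symm))⟩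
      haveI : Nonempty (MulAction.fixedPoints P S) := ⟨⟨_, hmem⟩⟩
      rw [Nat.card_unique]
    · haveI : IsEmpty (MulAction.fixedPoints P S) := ⟨fun a => hv ((hall a.1 a.2) ▸ a.1.2)⟩
      rw [Nat.card_of_isEmpty]
  have h1 := key 1
  have h0 := key g
  rw [if_pos (MulAction.mem_orbit_self _)] at h1
  rw [if_neg hgO] at h0
  exact (Fact.out : p.Prime).not_dvd_one (Nat.modEq_zero_iff_dvd.mp (h1.symm.trans h0))

/-- The order of a subgroup transitive on the cosets of `B`. -/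
theorem card_of_transitive (B H : Subgroup G) (htr : ∀ g : G, ∃ h ∈ H, ∃ b ∈ B, g = h * b) :
    Nat.card H = B.index * Nat.card (H ⊓ B : Subgroup G) := by
  classical
  have hst : MulAction.stabilizer H ((1 : G) : G ⧸ B) = B.subgroupOf H := by
    ext h
    rw [MulAction.mem_stabilizer_iff, Subgroup.mem_subgroupOf]
    show (((h : G) * 1 : G) : G ⧸ B) = ((1 : G) : G ⧸ B) ↔ _
    rw [QuotientGroup.eq]
    simp
  haveI : MulAction.IsPretransitive H (G ⧸ B) := by
    have h1 : ∀ y : G ⧸ B, ∃ h : H, h • ((1 : G) : G ⧸ B) = y := by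
      intro y
      obtain ⟨g, rfl⟩ := QuotientGroup.mk_surjective y
      obtain ⟨h, hh, b, hb, rfl⟩ := htr g
      refine ⟨⟨h, hh⟩, ?_⟩
      show ((h * 1 : G) : G ⧸ B) = _
      rw [QuotientGroup.eq]
      simpa using hb
    refine ⟨fun y z => ?_⟩
    obtain ⟨a, rfl⟩ := h1 y
    obtain ⟨b, rfl⟩ := h1 z
    exact ⟨b * a⁻¹, by rw [mul_smul, inv_smul_smul]⟩
  have h2 := MulAction.index_stabilizer_of_transitive H ((1 : G) : G ⧸ B)
  rw [hst] at h2
  have h3 := Subgroup.card_mul_index (B.subgroupOf H)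
  rw [h2] at h3
  have h4 : Nat.card (B.subgroupOf H) = Nat.card (H ⊓ B : Subgroup G) :=
    Nat.card_congr
      { toFun := fun x => ⟨x.1.1, x.1.2, x.2⟩
        invFun := fun x => ⟨⟨x.1, x.2.1⟩, x.2.2⟩
        left_inv := fun _ => rfl
        right_inv := fun _ => rfl }
  rw [← h3, h4, mul_comm]
  rfl

/-- A subgroup of small index meets each conjugate of `U` or is transitive on the cosets of a
subgroup containing `U`. -/
theorem transitive_of_small_index (B U H : Subgroup G) (hUB : U ≤ B) (hidx : H.index ≤ Nat.card U)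
    {g : G} (htriv : ∀ u ∈ U, g * u * g⁻¹ ∈ H → u = 1) :
    ∀ g' : G, ∃ h ∈ H, ∃ b ∈ B, g' = h * b := by
  classical
  let f : U → G ⧸ H := fun u => ((g * (u : G) * g⁻¹ : G) : G ⧸ H)
  have hf : Function.Injective f := by
    intro u v h
    have h' := QuotientGroup.eq.mp h
    have := htriv ((u : G)⁻¹ * v) (U.mul_mem (U.inv_mem u.2) v.2) (by
      convert h' using 1; group)
    exact Subtype.ext (inv_mul_eq_one.mp this)
  have hs : Function.Surjective f :=
    (hf.bijective_of_nat_card_le (by simpa [Subgroup.index] using hidx)).2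
  -- every coset of `B` is in the orbit of `g B`
  have h1 : ∀ g' : G, ∃ h ∈ H, g⁻¹ * (h * g') ∈ B := by
    intro g'
    obtain ⟨u, hu⟩ := hs (((g * g'⁻¹ : G)) : G ⧸ H)
    have hmem := QuotientGroup.eq.mp hu
    -- `g g'⁻¹ = g u g⁻¹ h`
    refine ⟨(g * (u : G) * g⁻¹)⁻¹ * (g * g'⁻¹), hmem, ?_⟩
    have : g⁻¹ * ((g * (u : G) * g⁻¹)⁻¹ * (g * g'⁻¹) * g') = (u : G)⁻¹ := by group
    rw [this]
    exact B.inv_mem (hUB u.2)
  intro g'
  obtain ⟨h, hh, hb⟩ := h1 g'
  obtain ⟨h0, hh0, hb0⟩ := h1 1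
  refine ⟨h⁻¹ * h0, H.mul_mem (H.inv_mem hh) hh0, (h0⁻¹ * g) * (g⁻¹ * (h * g')), ?_, by group⟩
  refine B.mul_mem ?_ hb
  rw [mul_one] at hb0
  simpa [mul_inv_rev] using B.inv_mem hb0

end CfsgLib.PSU3Min
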