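import Cfsg.Agent.Lib.PSU3Min.Borel
import Cfsg.Agent.Lib.PSU3Min.Orbit
import Cfsg.Agent.Lib.DicksonFull.Solvabilizer

/-!
The subgroup `SU₂(q) ≅ SL₂(q)` of a non-isotropic point, and what Dickson's list says about its subgroups.
-/

set_option autoImplicit false
set_option linter.unusedSectionVars false

namespace CfsgLib.PSU3Min

open Matrix

section Dickson

open CfsgLib.DicksonFull
open CfsgLib.PSL2 (mk mk_eq_mk)
open CfsgLib.Dickson (up)

variable {K : Type*} [Field K] [Fintype K] (p : ℕ) [Fact p.Prime] [CharP K p]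

local notation "SL" => Matrix.SpecialLinearGroup (Fin 2) K
local notation "PSL" => Matrix.ProjectiveSpecialLinearGroup (Fin 2) K
local notation "Q" => Fintype.card K

include p in
theorem up_mem_of_mk {D : Subgroup SL} {x : K} (h : mk (up x) ∈ D.map mk) : up x ∈ D := by
  obtain ⟨g, hg, hgx⟩ := h
  rcases mk_eq_mk.mp hgx with e | e
  · rwa [show up x = g from Subtype.ext e]
  · have hgn : g = -up x := by
      apply Subtype.ext
      show g.1 = -(up x).1
      rw [e, neg_neg]
    rcases eq_or_ne p 2 with rfl | hp2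
    · haveI : CharP (Matrix (Fin 2) (Fin 2) K) 2 := inferInstance
      rwa [show up x = g from Subtype.ext (by rw [e, CharTwo.neg_eq])]
    · have hev : Even (p + 1) := ((Fact.out : p.Prime).odd_of_ne_two hp2).add_one
      have h1 : g ^ (p + 1) = up x := by
        rw [hgn, hev.neg_pow, Dickson.up_pow, Nat.cast_add, CharP.cast_eq_zero, zero_add, Nat.cast_one, one_mul]
      exact h1 ▸ D.pow_mem hg _

/-- The polyhedral and prime power cases. -/
theorem small_q : ∀ n : Fin 120, ∀ f : Fin 7, 2 ≤ (n : ℕ) → 2 ≤ (f : ℕ) → (n : ℕ) ^ (f : ℕ) + 1 ∣ 120 →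
    (n : ℕ) ^ (f : ℕ) = 4 ∨ (n : ℕ) ^ (f : ℕ) = 9 := by
  decide +kernel

theorem exists_card_pow (p : ℕ) [Fact p.Prime] [CharP K p] : ∃ e, 0 < e ∧ Fintype.card K = p ^ e := by
  obtain ⟨n, -, hn⟩ := FiniteField.card K p
  exact ⟨n, n.pos, hn⟩

/-- A subgroup of `SL₂(q)` meeting all conjugates of the upper unitriangular group contains it,
but for dihedral groups and `SL₂(5) ≤ SL₂(9)`. -/
theorem sl2_full (D : Subgroup SL) (hyp : ∀ g : SL, ∃ x : K, x ≠ 0 ∧ g * up x * g⁻¹ ∈ D) :
    (∀ x : K, up x ∈ D) ∨ (p = 2 ∧ Nat.card {x : K // up x ∈ D} = 2) ∨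
      (Q = 9 ∧ Nat.card {x : K // up x ∈ D} = 3) := by
  classical
  have hp := (Fact.out : p.Prime)
  obtain ⟨x0, hx0, hx0D⟩ := hyp 1
  rw [one_mul, inv_one, mul_one] at hx0D
  set u0 : PSL := mk (up x0)
  have hu0 : orderOf u0 = p := order_p_mk_up p hx0
  set E : Subgroup PSL := D.map mk
  have hu0E : u0 ∈ E := ⟨_, hx0D, rfl⟩
  let f : K → (cent u0 : Subgroup PSL) := fun x =>
    ⟨mk (up x), mem_cent.mpr (Commute.map (show up x * up x0 = up x0 * up x by
      rw [Dickson.up_mul, Dickson.up_mul, add_comm]) mk)⟩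
  have hf : Function.Injective f := by
    intro x y h
    rcases mk_eq_mk.mp (congrArg Subtype.val h) with e | e
    · simpa using (congrFun (congrFun e 0) 1).symm
    · have h0 := congrFun (congrFun e 0) 0
      have h1 := congrFun (congrFun e 0) 1
      simp at h0 h1
      rcases eq_or_ne p 2 with rfl | hp2
      · rw [h1, CharTwo.neg_eq]
      · exfalso
        have : ((2 : ℕ) : K) = 0 := by push_cast; linear_combination h0
        exact hp2 ((Nat.prime_dvd_prime_iff_eq hp Nat.prime_two).mp ((CharP.cast_eq_zero_iff K p 2).mp this))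
  have hfs : Function.Surjective f := (hf.bijective_of_nat_card_le (by
    rw [card_cent p hu0, Nat.card_eq_fintype_card])).2
  set S := Nat.card {x : K // up x ∈ D} with hS
  have hSc : S = Nat.card (E ⊓ cent u0 : Subgroup PSL) := by
    refine Nat.card_eq_of_bijective (fun x => ⟨(f x.1).1, ⟨_, x.2, rfl⟩, (f x.1).2⟩) ⟨fun x y h => ?_, fun y => ?_⟩
    · exact Subtype.ext (hf (Subtype.ext (congrArg Subtype.val h :)))
    · obtain ⟨x, hx⟩ := hfs ⟨y.1, y.2.2⟩
      have hx' : mk (up x) = y.1 := congrArg Subtype.val hx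
      exact ⟨⟨x, up_mem_of_mk p (hx' ▸ y.2.1)⟩, Subtype.ext hx'⟩
  have hSle : S ≤ Q := by
    rw [hS, ← Nat.card_eq_fintype_card (α := K)]
    exact Nat.card_le_card_of_injective Subtype.val Subtype.val_injective
  have hfull : S = Q → ∀ x : K, up x ∈ D := fun h x => by
    have hb := (Subtype.val_injective (p := fun x : K => up x ∈ D)).bijective_of_nat_card_le
      (by rw [← hS, h, Nat.card_eq_fintype_card])
    obtain ⟨⟨z, hz⟩, rfl⟩ := hb.2 x
    exact hz
  have hS2 : 2 ≤ S := by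
    rw [hS]
    haveI : Nontrivial {x : K // up x ∈ D} :=
      ⟨⟨x0, hx0D⟩, ⟨0, by rw [Dickson.up_zero]; exact one_mem _⟩, fun h => hx0 (congrArg Subtype.val h)⟩
    exact Finite.one_lt_card
  -- transitivity on the points of the line
  have htr : ∀ g : PSL, ∃ h ∈ E, ∃ b ∈ bor u0, g = h * b := by
    refine transitive_of_unique_fix (bor u0) E p fun g => ?_
    obtain ⟨g', rfl⟩ := mk_surj g
    obtain ⟨x, hx, hxD⟩ := hyp g'
    have hox : orderOf (mk (up x)) = p := order_p_mk_up p hx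
    have hcx : mk (up x) ∈ cent u0 := (f x).2
    refine ⟨mk g' * mk (up x) * (mk g')⁻¹, ⟨_, hxD, by rw [map_mul, map_mul, map_inv]⟩, ⟨1, ?_⟩, ?_, fun w hw => ?_⟩
    · rw [pow_one, conj_pow, ← hox, pow_orderOf_eq_one, mul_one, mul_inv_cancel]
    · rw [show (mk g')⁻¹ * (mk g' * mk (up x) * (mk g')⁻¹) * mk g' = mk (up x) by group]
      exact Subgroup.le_normalizer hcx
    · set k := (mk g')⁻¹ * w with hk
      have hz' : w⁻¹ * (mk g' * mk (up x) * (mk g')⁻¹) * w = k⁻¹ * mk (up x) * k := by rw [hk]; group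
      rw [hz'] at hw
      set z := k⁻¹ * mk (up x) * k with hz
      have hzo : orderOf z = p := by
        rw [hz, show k⁻¹ * mk (up x) * k = MulAut.conj k⁻¹ (mk (up x)) by simp, (MulAut.conj k⁻¹).orderOf_eq, hox]
      have hzc : z ∈ cent u0 := mem_cent_of_mem_bor p hu0 hw (by rw [← hzo, pow_orderOf_eq_one])
      rw [mem_bor (psl p) hu0]
      -- `u0` commutes with `z`, so its conjugate by `k` commutes with `k z k⁻¹`
      have h1 : Commute (k * u0 * k⁻¹) (mk (up x)) := by
        have := (mem_cent.mp hzc).symm.map (MulAut.conj k).toMonoidHom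
        simp only [MulEquiv.coe_toMonoidHom, MulAut.conj_apply] at this
        rwa [show k * z * k⁻¹ = mk (up x) by rw [hz]; group] at this
      have h2 : k * u0 * k⁻¹ ∈ cent (mk (up x)) := mem_cent.mpr h1
      rw [cent_eq (psl p) hu0 hox (mem_cent.mp hcx)] at h2
      exact mem_cent.mp h2
  have hEcard := card_of_transitive _ _ htr
  rw [index_bor p hu0] at hEcard
  have hSdvd : S ∣ Nat.card E := hSc ▸ Subgroup.card_dvd_of_le inf_le_left
  obtain ⟨e, he, hQ⟩ := exists_card_pow (K := K) p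
  have hSp : ∃ i, S = p ^ i := by
    have h1 : S ∣ Q := by
      rw [hSc, ← card_cent p hu0]; exact Subgroup.card_dvd_of_le inf_le_right
    rw [hQ] at h1
    obtain ⟨i, -, hi⟩ := (Nat.dvd_prime_pow hp).mp h1
    exact ⟨i, hi⟩
  obtain ⟨i, hi⟩ := hSp
  have hi0 : 1 ≤ i := by
    rcases Nat.eq_zero_or_pos i with rfl | h
    · rw [pow_zero] at hi; omega
    · exact h
  rcases DicksonFull.kind (psl p) E with h | ⟨x, hx, hxH, h⟩ | ⟨x, hx, hxH, h⟩ | h | h | h |
    ⟨u, huH, hu, h⟩ | ⟨u, v, huH, hu, hvH, hv, huv, Q', hQ', h3, hh, -, -⟩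
  · exfalso
    rw [h, Subgroup.mem_bot] at hu0E
    rw [hu0E, orderOf_one] at hu0
    exact hp.ne_one hu0.symm
  · exfalso
    have hu1 : u0 ≠ 1 := fun e1 => by rw [e1, orderOf_one] at hu0; exact hp.ne_one hu0.symm
    exact ((psl p).T_eq x u0 hx (h hu0E) hu1).1.2 (dvd_of_eq hu0.symm)
  · obtain ⟨e'⟩ := h
    rw [Nat.card_congr e'.toEquiv, DihedralGroup.nat_card] at hSdvd
    have hk := not_dvd_tor (psl p) (H := E) hx
    rw [hi] at hSdvd
    have h2 : p = 2 := by
      rcases hp.dvd_mul.mp ((dvd_pow_self p (Nat.one_le_iff_ne_zero.mp hi0)).trans hSdvd) with h | h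
      · exact (Nat.prime_dvd_prime_iff_eq hp Nat.prime_two).mp h
      · exact absurd h hk
    subst h2
    refine Or.inr (Or.inl ⟨rfl, ?_⟩)
    have h3 := (Nat.Coprime.pow_left i ((Fact.out : (2 : ℕ).Prime).coprime_iff_not_dvd.mpr hk)).dvd_of_dvd_mul_right hSdvd
    have := Nat.le_of_dvd (by norm_num) h3
    omega
  iterate 3
    obtain ⟨e'⟩ := h
    have h120 : Nat.card E ∣ 120 := by
      rw [Nat.card_congr e'.toEquiv, Nat.card_eq_fintype_card]
      decide
    have hq1 : Q + 1 ∣ 120 := (Dvd.intro _ hEcard.symm).trans h120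
    rcases Nat.lt_or_ge e 2 with he1 | he1
    · exact Or.inl (hfull (le_antisymm hSle (by
        rw [hi, hQ, show e = 1 by omega, pow_one]; exact Nat.le_self_pow (by omega) p)))
    · have hle : p ^ e + 1 ≤ 120 := hQ ▸ Nat.le_of_dvd (by norm_num) hq1
      have he7 : e < 7 := by
        by_contra hcon
        have := (Nat.pow_le_pow_left hp.two_le e).trans' (Nat.pow_le_pow_right (by norm_num) (Nat.le_of_not_lt hcon))
        omega
      have hp120 : p < 120 := by
        have := Nat.le_self_pow (show e ≠ 0 by omega) p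
        omega
      have h49 := small_q ⟨p, hp120⟩ ⟨e, he7⟩ hp.two_le he1 (hQ ▸ hq1)
      have hp23 : (p ^ e = 4 → p = 2) ∧ (p ^ e = 9 → p = 3) :=
        ⟨fun h => (Nat.prime_dvd_prime_iff_eq hp Nat.prime_two).mp (hp.dvd_of_dvd_pow (n := 2) (by
            rw [show (2 : ℕ) ^ 2 = p ^ e by rw [h]; norm_num]; exact dvd_pow_self p (by omega))),
          fun h => (Nat.prime_dvd_prime_iff_eq hp Nat.prime_three).mp (hp.dvd_of_dvd_pow (n := 2) (by
            rw [show (3 : ℕ) ^ 2 = p ^ e by rw [h]; norm_num]; exact dvd_pow_self p (by omega)))⟩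
      by_cases hSQ : S = Q
      · exact Or.inl (hfull hSQ)
      have hlt : p ^ i < p ^ e := by rw [← hi, ← hQ]; omega
      have hie : i < e := (Nat.pow_lt_pow_iff_right hp.one_lt).mp hlt
      rcases h49 with h | h
      · obtain rfl := hp23.1 h
        have : e = 2 := Nat.pow_right_injective le_rfl (h.trans (by norm_num : (4 : ℕ) = 2 ^ 2))
        exact Or.inr (Or.inl ⟨rfl, by rw [hi, show i = 1 by omega, pow_one]⟩)
      · obtain rfl := hp23.2 h
        have : e = 2 := Nat.pow_right_injective (by norm_num) (h.trans (by norm_num : (9 : ℕ) = 3 ^ 2))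
        exact Or.inr (Or.inr ⟨by rw [hQ, h], by rw [hi, show i = 1 by omega, pow_one]⟩)
  · exfalso
    have hc : u0 ∈ cent u := mem_cent_of_mem_bor p hu (h hu0E) (by rw [← hu0, pow_orderOf_eq_one])
    have hb : bor u0 = bor u := by
      show Subgroup.normalizer _ = Subgroup.normalizer _
      rw [cent_eq (psl p) hu hu0 (mem_cent.mp hc)]
    rw [hb, inf_eq_left.mpr h] at hEcard
    have hpos : 0 < Nat.card E := Nat.card_pos
    have hlt : 1 * Nat.card E < (Q + 1) * Nat.card E :=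
      Nat.mul_lt_mul_of_pos_right (by have := Fintype.one_lt_card (α := K); omega) hpos
    omega
  · left
    -- `u` is conjugate in `E` into the centraliser of `u0`
    obtain ⟨h, hh', hhu⟩ : ∃ h ∈ E, h⁻¹ * u * h ∈ cent u0 := by
      haveI : Finite PSL := inferInstance
      let S' : Subgroup PSL := Subgroup.zpowers u
      have hP : IsPGroup p S' := IsPGroup.of_card (n := 1) (by rw [Nat.card_zpowers, hu, pow_one])
      have hnd : ¬ p ∣ Nat.card (PSL ⧸ bor u0) := by
        show ¬ p ∣ (bor u0).index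
        rw [index_bor p hu0, hQ]
        intro hd
        exact hp.not_dvd_one ((Nat.dvd_add_right (dvd_pow_self p he.ne')).mp hd)
      obtain ⟨y, hy⟩ := hP.nonempty_fixed_point_of_prime_not_dvd_card (PSL ⧸ bor u0) hnd
      obtain ⟨w, rfl⟩ := QuotientGroup.mk_surjective y
      have hw' : ((u * w : PSL) : PSL ⧸ bor u0) = (w : PSL ⧸ bor u0) := hy ⟨u, Subgroup.mem_zpowers u⟩
      have hw := QuotientGroup.eq.mp hw'.symm
      obtain ⟨h, hh', b, hb, rfl⟩ := htr w
      refine ⟨h, hh', mem_cent_of_mem_bor p hu0 ?_ ?_⟩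
      · have := (bor u0).mul_mem ((bor u0).mul_mem hb hw) ((bor u0).inv_mem hb)
        convert this using 1
        group
      · rw [show h⁻¹ * u * h = MulAut.conj h⁻¹ u by simp, ← map_pow, ← hu, pow_orderOf_eq_one, map_one]
    set u' := h⁻¹ * u * h with hu'
    have hu'o : orderOf u' = p := by
      rw [hu', show h⁻¹ * u * h = MulAut.conj h⁻¹ u by simp, (MulAut.conj h⁻¹).orderOf_eq, hu]
    have hceq : cent u' = cent u0 := cent_eq (psl p) hu0 hu'o (mem_cent.mp hhu)
    have hbeq : bor u' = bor u0 := by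
      show Subgroup.normalizer _ = Subgroup.normalizer _
      rw [hceq]
    have hcc : ∀ y, y ∈ cent u ↔ h⁻¹ * y * h ∈ cent u' := fun y => by
      rw [mem_cent, mem_cent, hu', show h⁻¹ * y * h = MulAut.conj h⁻¹ y by simp,
        show h⁻¹ * u * h = MulAut.conj h⁻¹ u by simp]
      exact ⟨fun hc => hc.map _, fun hc => by simpa [mul_assoc] using hc.map (MulAut.conj h)⟩
    have hbb : ∀ y, y ∈ bor u ↔ h⁻¹ * y * h ∈ bor u' := fun y => by
      rw [mem_bor (psl p) hu, mem_bor (psl p) hu'o, ← mem_cent, ← mem_cent, hcc, hu']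
      rw [show h⁻¹ * (y * u * y⁻¹) * h = h⁻¹ * y * h * (h⁻¹ * u * h) * (h⁻¹ * y * h)⁻¹ by group]
    have hcard : ∀ (A B : Subgroup PSL), (∀ y, y ∈ A ↔ h⁻¹ * y * h ∈ B) →
        Nat.card (E ⊓ A : Subgroup PSL) = Nat.card (E ⊓ B : Subgroup PSL) := fun A B hAB =>
      Nat.card_congr
        { toFun := fun y => ⟨h⁻¹ * y.1 * h, E.mul_mem (E.mul_mem (E.inv_mem hh') y.2.1) hh', (hAB _).mp y.2.2⟩
          invFun := fun y => ⟨h * y.1 * h⁻¹, E.mul_mem (E.mul_mem hh' y.2.1) (E.inv_mem hh'),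
            (hAB _).mpr (by rw [show h⁻¹ * (h * y.1 * h⁻¹) * h = y.1 by group]; exact y.2.2)⟩
          left_inv := fun y => Subtype.ext (by group)
          right_inv := fun y => Subtype.ext (by group) }
    rw [hcard _ _ hbb, hbeq, hEcard] at hh
    rw [hcard _ _ hcc, hceq, ← hSc] at hQ'
    have := Nat.eq_of_mul_eq_mul_right Nat.card_pos hh
    exact hfull (by omega)

/-- Subgroups of `SL₂(q)` of order prime to `p`. -/
theorem sl2_bound (D : Subgroup SL) (hD : ¬ p ∣ Nat.card D) :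
    ∃ b, Nat.card D ≤ Nat.gcd 2 (Q - 1) * b ∧ b ∣ Nat.card PSL ∧ ¬ p ∣ b ∧
      (b ≤ Q + 1 ∨ b = 12 ∨ b = 24 ∨ b = 60) := by
  classical
  have hp := (Fact.out : p.Prime)
  set E : Subgroup PSL := D.map mk
  have hEd : Nat.card E ∣ Nat.card D := Subgroup.card_map_dvd D mk
  have hpE : ¬ p ∣ Nat.card E := fun h => hD (h.trans hEd)
  refine ⟨Nat.card E, ?_, Subgroup.card_subgroup_dvd_card E, hpE, ?_⟩
  · have h1 := card_lift (F := K) (fun y => y ∈ E)
    rw [show Nat.card {y : PSL // y ∈ E} = Nat.card E from rfl] at h1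
    rw [← h1]
    exact Nat.card_le_card_of_injective (fun g : D => (⟨g.1, ⟨g.1, g.2, rfl⟩⟩ : {g : SL // mk g ∈ E}))
      (fun a b e => Subtype.ext (congrArg (fun t : {g : SL // mk g ∈ E} => t.1) e))
  have hg := Nat.gcd_dvd_left 2 (Q - 1)
  have hQ1 := Fintype.one_lt_card (α := K)
  have hno : ∀ u ∈ E, orderOf u ≠ p := fun u hu h =>
    hpE (h ▸ (Subgroup.orderOf_coe (⟨u, hu⟩ : E)) ▸ orderOf_dvd_natCard _)
  rcases DicksonFull.kind (psl p) E with h | ⟨x, hx, hxH, h⟩ | ⟨x, hx, hxH, h⟩ | h | h | h |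
    ⟨u, huH, hu, -⟩ | ⟨u, v, huH, hu, -⟩
  · left; rw [h, Subgroup.card_bot]; omega
  · left
    have hd := card_tor_dvd p (H := E) hx
    rw [show tor (psl p) E x = E from inf_eq_left.mpr h] at hd
    rcases gcd_cases (F := K) p with ⟨hg', hev⟩ | ⟨hg', hodd⟩ <;> rw [hg'] at hd <;> rcases hd with hd | hd <;>
      have := Nat.le_of_dvd (by omega) hd <;> omega
  · left
    obtain ⟨e'⟩ := h
    have hc : Nat.card E = 2 * Nat.card (tor (psl p) E x) := by
      rw [Nat.card_congr e'.toEquiv, DihedralGroup.nat_card]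
    have hd := card_tor_dvd p (H := E) hx
    rcases gcd_cases (F := K) p with ⟨-, hev⟩ | ⟨hg', hodd⟩
    · exfalso
      have h2 : p = 2 := by
        obtain ⟨e, he, hQ⟩ := exists_card_pow (K := K) p
        by_contra h2
        have := ((Fact.out : p.Prime).odd_of_ne_two h2).pow (n := e)
        rw [← hQ, Nat.odd_iff] at this
        omega
      exact hpE (by rw [hc]; exact Dvd.dvd.mul_right (dvd_of_eq h2) _)
    · rw [hg'] at hd
      rcases hd with hd | hd <;> have := Nat.le_of_dvd (by omega) hd <;> omega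
  · obtain ⟨e'⟩ := h
    right; left
    rw [Nat.card_congr e'.toEquiv, Nat.card_eq_fintype_card]; rfl
  · obtain ⟨e'⟩ := h
    right; right; left
    rw [Nat.card_congr e'.toEquiv, Nat.card_eq_fintype_card, Fintype.card_perm, Fintype.card_fin]; rfl
  · obtain ⟨e'⟩ := h
    right; right; right
    rw [Nat.card_congr e'.toEquiv, Nat.card_eq_fintype_card]; rfl
  · exact absurd hu (hno u huH)
  · exact absurd hu (hno u huH)

end Dickson

section Embed

open CfsgLib.PSUBorel
open CfsgLib.Dickson (up)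

variable {F : Type*} [Field F] [Fintype F] (c : Conj F)

local notation "G" => SUs c 3

/-- The fixed field of the conjugation. -/
abbrev Fix : Subfield F := RingHom.eqLocusField c.σ (RingHom.id F)

theorem mem_Fix {x : F} : x ∈ Fix c ↔ c.σ x = x := Iff.rfl

theorem card_Fix {b0 : F} (hb : b0 ≠ 0) (hb0 : c.σ b0 = -b0) : Nat.card (Fix c) = c.q := by
  obtain ⟨e, he⟩ := c.exists_trace_one
  let tr : F →+ Fix c :=
    { toFun := fun x => ⟨x + c.σ x, by rw [mem_Fix, map_add, c.invol, add_comm]⟩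
      map_zero' := Subtype.ext (by simp)
      map_add' := fun x y => Subtype.ext (by simp; abel) }
  have hs : Function.Surjective tr := fun ⟨y, hy⟩ => ⟨e * y, Subtype.ext (by
    show e * y + c.σ (e * y) = y
    rw [map_mul, (mem_Fix c).mp hy, ← add_mul, he, one_mul])⟩
  have hk : Nat.card tr.ker = Nat.card (Fix c) := by
    refine Nat.card_congr
      { toFun := fun x => ⟨x.1 / b0, ?_⟩
        invFun := fun y => ⟨y.1 * b0, ?_⟩
        left_inv := fun x => Subtype.ext (div_mul_cancel₀ _ hb)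
        right_inv := fun y => Subtype.ext (mul_div_cancel_right₀ _ hb) }
    · have h : x.1 + c.σ x.1 = 0 := congrArg Subtype.val x.2
      rw [mem_Fix, map_div₀, hb0, eq_neg_of_add_eq_zero_right h, neg_div_neg_eq]
    · refine AddMonoidHom.mem_ker.mpr (Subtype.ext ?_)
      show y.1 * b0 + c.σ (y.1 * b0) = 0
      rw [map_mul, (mem_Fix c).mp y.2, hb0]; ring
  have h := AddSubgroup.card_eq_card_quotient_mul_card_addSubgroup tr.ker
  rw [Nat.card_congr (QuotientAddGroup.quotientKerEquivOfSurjective tr hs).toEquiv, hk, Nat.card_eq_fintype_card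
    (α := F), c.card, pow_two] at h
  exact (Nat.mul_self_inj.mp h).symm

variable {b0 : F}

local notation "SL0" => Matrix.SpecialLinearGroup (Fin 2) (Fix c)

/-- `SL₂(q)` acting on a hyperbolic line. -/
def emb2 (hb : b0 ≠ 0) (hb0 : c.σ b0 = -b0) : SL0 →* G where
  toFun M := ⟨⟨!![(M.1 0 0 : F), 0, M.1 0 1 * b0; 0, 1, 0; M.1 1 0 / b0, 0, M.1 1 1], by
      have h := congrArg (fun x : Fix c => (x : F)) (Dickson.det_eq M)
      simp [Matrix.det_fin_three] at h ⊢
      field_simp
      linear_combination h⟩, by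
    show Cond c !![(M.1 0 0 : F), 0, M.1 0 1 * b0; 0, 1, 0; M.1 1 0 / b0, 0, M.1 1 1]
    have h := congrArg (fun x : Fix c => (x : F)) (Dickson.det_eq M)
    simp at h
    have h00 := (mem_Fix c).mp (M.1 0 0).2
    have h01 := (mem_Fix c).mp (M.1 0 1).2
    have h10 := (mem_Fix c).mp (M.1 1 0).2
    have h11 := (mem_Fix c).mp (M.1 1 1).2
    ext i j
    rw [Matrix.mul_apply]
    simp only [mul_aJ]
    fin_cases i <;> fin_cases j <;>
      simp [aJ, Fin.sum_univ_three, Fin.rev, map_mul, map_div₀, h00, h01, h10, h11, hb0] <;>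
      field_simp <;> first | ring1 | linear_combination h⟩
  map_one' := SUs_ext c (by
    rw [coe_one]
    ext i j
    fin_cases i <;> fin_cases j <;> simp)
  map_mul' M N := SUs_ext c (by
    rw [coe_mul]
    ext i j
    fin_cases i <;> fin_cases j <;>
      simp [Matrix.mul_apply, Fin.sum_univ_three, Fin.sum_univ_two] <;> field_simp)

theorem emb2_inj (hb : b0 ≠ 0) (hb0 : c.σ b0 = -b0) : Function.Injective (emb2 c hb hb0) := by
  intro M N h
  have e := congrArg (fun A : G => A.1.1) h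
  have e00 := congrFun (congrFun e 0) 0
  have e01 := congrFun (congrFun e 0) 2
  have e10 := congrFun (congrFun e 2) 0
  have e11 := congrFun (congrFun e 2) 2
  simp [emb2, hb] at e00 e01 e10 e11
  exact Dickson.ext_entries e00 e01 e10 e11

theorem emb2_up (hb : b0 ≠ 0) (hb0 : c.σ b0 = -b0) (x : Fix c) : emb2 c hb hb0 (up x) ∈ ZG c := by
  refine ⟨mem_UU_of_diag c ((mem_BG_iff c).mpr ⟨?_, ?_, ?_⟩) fun i => ?_, ?_⟩
  · simp [emb2]
  · simp [emb2]
  · simp [emb2]
  · fin_cases i <;> simp [emb2]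
  · simp [emb2]

theorem emb2_up_corner (hb : b0 ≠ 0) (hb0 : c.σ b0 = -b0) (x : Fix c) :
    (emb2 c hb hb0 (up x)).1.1 0 2 = x * b0 := by simp [emb2]

theorem emb2_surj (hb : b0 ≠ 0) (hb0 : c.σ b0 = -b0) {z : G} (hz : z ∈ ZG c) :
    ∃ x : Fix c, emb2 c hb hb0 (up x) = z := by
  obtain ⟨hzU, h01⟩ := hz
  obtain ⟨h12, h02⟩ := UG_rel c hzU
  rw [h01, map_zero, neg_zero] at h12
  rw [h01, map_zero, mul_zero, add_zero] at h02
  have hf : z.1.1 0 2 / b0 ∈ Fix c := by
    rw [mem_Fix, map_div₀, hb0, eq_neg_of_add_eq_zero_right h02, neg_div_neg_eq]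
  obtain ⟨z10, z20, z21⟩ := (mem_BG_iff c).mp (UG_le c hzU)
  refine ⟨⟨_, hf⟩, SUs_ext c (Matrix.ext fun i j => ?_)⟩
  fin_cases i <;> fin_cases j <;> simp [emb2, z10, z20, z21, h01, h12, UU_diag c hzU, hb]

theorem emb2_range (hb : b0 ≠ 0) (hb0 : c.σ b0 = -b0) {g : G} (h01 : g.1.1 0 1 = 0) (h10 : g.1.1 1 0 = 0)
    (h12 : g.1.1 1 2 = 0) (h21 : g.1.1 2 1 = 0) (h11 : g.1.1 1 1 = 1) :
    g ∈ (emb2 c hb hb0).range := by
  have hd := g.1.2
  have e00 := cond_apply c g.2 0 0
  have e02 := cond_apply c g.2 0 2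
  have e22 := cond_apply c g.2 2 2
  have e20 := cond_apply c g.2 2 0
  simp [Fin.sum_univ_three, Fin.rev, h01, h21] at e00 e02 e22 e20
  rw [Matrix.det_fin_three, h01, h10, h12, h21, h11] at hd
  simp at hd
  have hd' := congrArg c.σ hd
  simp at hd'
  set a := g.1.1 0 0
  set b := g.1.1 0 2
  set r := g.1.1 2 0
  set d := g.1.1 2 2
  have sa : c.σ a = a := by linear_combination -(c.σ a) * e02 + c.σ r * e00 + a * hd'
  have sb : c.σ b = -b := by linear_combination -(c.σ b) * e02 + c.σ d * e00 - b * hd'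
  have sr : c.σ r = -r := by linear_combination -(c.σ r) * e20 + c.σ a * e22 - r * hd'
  have sd : c.σ d = d := by linear_combination -(c.σ d) * e20 + c.σ b * e22 + d * hd'
  refine ⟨⟨!![⟨a, sa⟩, ⟨b / b0, by rw [mem_Fix, map_div₀, sb, hb0, neg_div_neg_eq]⟩;
    ⟨r * b0, by rw [mem_Fix, map_mul, sr, hb0, neg_mul_neg]⟩, ⟨d, sd⟩], ?_⟩, SUs_ext c (Matrix.ext fun i j => ?_)⟩
  · rw [Matrix.det_fin_two]
    apply Subtype.ext
    simp
    field_simp
    linear_combination hd
  · fin_cases i <;> fin_cases j <;> simp [emb2, a, b, r, d, h01, h10, h12, h21, h11, hb]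

end Embed

end CfsgLib.PSU3Min
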