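import Mathlib

/-!
Elements of a prime order not dividing `|F| (|F|² - 1)` in three dimensions, and the Sylow argument
excluding them.
-/

set_option autoImplicit false

namespace CfsgLib.PSU3Min

section Linear

variable {F : Type*} [Field F] [Fintype F] {V : Type*} [AddCommGroup V] [Module F V] [Module.Finite F V]
  {r : ℕ} [Fact r.Prime]

/-- The fixed space of an element of order `r` on an invariant subspace. -/
theorem card_fixed (x : Module.End F V) (hx : x ^ r = 1) (W : Submodule F V) (hW : ∀ v ∈ W, x v ∈ W) :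
    Fintype.card F ^ Module.finrank F W ≡
      Fintype.card F ^ Module.finrank F (W ⊓ LinearMap.ker (x - 1) : Submodule F V) [MOD r] := by
  classical
  haveI : Finite V := Module.finite_of_finite F
  haveI : Finite (Module.End F V) := Finite.of_injective DFunLike.coe DFunLike.coe_injective
  let u : (Module.End F V)ˣ := Units.ofPowEqOne x r hx (Fact.out : r.Prime).ne_zero
  have hu : (u : Module.End F V) = x := rfl
  have hpow : ∀ (k : ℕ) (v : V), v ∈ W → (x ^ k) v ∈ W := by
    intro k
    induction k with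
    | zero => intro v hv; simpa using hv
    | succ k ih => intro v hv; rw [pow_succ, Module.End.mul_apply]; exact ih _ (hW _ hv)
  have hmem : ∀ (a : Subgroup.zpowers u) (v : W), ((a : (Module.End F V)ˣ) : Module.End F V) v ∈ W := by
    intro a v
    obtain ⟨k, -, hk⟩ := ((isOfFinOrder_of_finite u).mem_zpowers_iff_mem_range_orderOf.mp a.2
      |> Finset.mem_image.mp)
    rw [← hk, Units.val_pow_eq_pow_val, hu]
    exact hpow k _ v.2
  letI : MulAction (Subgroup.zpowers u) W :=
    { smul := fun a v => ⟨_, hmem a v⟩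
      one_smul := fun v => Subtype.ext rfl
      mul_smul := fun a b v => Subtype.ext rfl }
  have hP : IsPGroup r (Subgroup.zpowers u) := by
    intro ⟨z, hz⟩
    obtain ⟨i, rfl⟩ := Subgroup.mem_zpowers_iff.mp hz
    refine ⟨1, Subtype.ext ?_⟩
    show (u ^ i) ^ r ^ 1 = 1
    rw [pow_one, ← zpow_natCast, zpow_comm, zpow_natCast,
      show u ^ r = 1 from Units.ext (by rw [Units.val_pow_eq_pow_val, hu, hx, Units.val_one]), _root_.one_zpow]
  have key := hP.card_modEq_card_fixedPoints W
  have e : Nat.card (MulAction.fixedPoints (Subgroup.zpowers u) W) =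
      Nat.card (W ⊓ LinearMap.ker (x - 1) : Submodule F V) := by
    refine Nat.card_congr
      { toFun := fun v => ⟨v.1.1, v.1.2, ?_⟩
        invFun := fun v => ⟨⟨v.1, v.2.1⟩, ?_⟩
        left_inv := fun _ => rfl
        right_inv := fun _ => rfl }
    · have := congrArg Subtype.val (v.2 ⟨u, Subgroup.mem_zpowers u⟩)
      refine LinearMap.mem_ker.mpr ?_
      rw [LinearMap.sub_apply, Module.End.one_apply, sub_eq_zero]
      exact this
    · intro a
      apply Subtype.ext
      show ((a : (Module.End F V)ˣ) : Module.End F V) v.1 = v.1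
      obtain ⟨k, -, hk⟩ := ((isOfFinOrder_of_finite u).mem_zpowers_iff_mem_range_orderOf.mp a.2
        |> Finset.mem_image.mp)
      rw [← hk, Units.val_pow_eq_pow_val, hu]
      have hv : x v.1 = v.1 := by
        simpa [sub_eq_zero] using v.2.2
      clear hk
      induction k with
      | zero => simp
      | succ k ih => rw [pow_succ, Module.End.mul_apply, hv, ih]
  rw [e, Module.natCard_eq_pow_finrank (K := F) (V := W), Module.natCard_eq_pow_finrank (K := F)
    (V := (W ⊓ LinearMap.ker (x - 1) : Submodule F V)), Nat.card_eq_fintype_card] at key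
  exact key

/-- An element of order `r` leaves no proper subspace invariant. -/
theorem no_invariant (h3 : Module.finrank F V = 3) (hr1 : ¬ r ∣ Fintype.card F)
    (hr2 : ¬ r ∣ Fintype.card F ^ 2 - 1) {x : Module.End F V} (hx : x ^ r = 1) (hx1 : x ≠ 1)
    {W : Submodule F V} (hW0 : W ≠ ⊥) (hW1 : W ≠ ⊤) (hW : ∀ v ∈ W, x v ∈ W) : False := by
  set Q := Fintype.card F
  have hQ : 1 < Q := Fintype.one_lt_card
  have step : ∀ m k : ℕ, m < k → k - m ≤ 2 → ¬ Q ^ k ≡ Q ^ m [MOD r] := by
    intro m k hmk hkm h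
    have hle : Q ^ m ≤ Q ^ k := Nat.pow_le_pow_right hQ.le hmk.le
    have hd := (Nat.modEq_iff_dvd' hle).mp h.symm
    rw [show Q ^ k - Q ^ m = Q ^ m * (Q ^ (k - m) - 1) by
      rw [Nat.mul_sub, mul_one, ← pow_add, Nat.add_sub_cancel' hmk.le]] at hd
    rcases (Fact.out : r.Prime).dvd_mul.mp hd with hd | hd
    · exact hr1 ((Fact.out : r.Prime).dvd_of_dvd_pow hd)
    · rcases (show k - m = 1 ∨ k - m = 2 by omega) with e | e
      · rw [e, pow_one] at hd
        exact hr2 (dvd_trans hd (by
          have := Nat.sub_dvd_pow_sub_pow Q 1 2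
          simpa using this))
      · rw [e] at hd; exact hr2 hd
  have hWlt : Module.finrank F W < 3 := h3 ▸ Submodule.finrank_lt hW1
  have hWpos : 0 < Module.finrank F W := Nat.pos_of_ne_zero fun h => hW0 (Submodule.finrank_eq_zero.mp h)
  set m := Module.finrank F (W ⊓ LinearMap.ker (x - 1) : Submodule F V) with hm
  have hmW : m ≤ Module.finrank F W := Submodule.finrank_mono inf_le_left
  have hfix : W ≤ LinearMap.ker (x - 1) := by
    rcases hmW.lt_or_eq with h | h
    · exact absurd (card_fixed x hx W hW) (step _ _ h (by omega))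
    · exact inf_eq_left.mp (Submodule.eq_of_le_of_finrank_eq inf_le_left h)
  have hall := card_fixed x hx ⊤ (fun _ _ => Submodule.mem_top)
  rw [finrank_top, h3, top_inf_eq] at hall
  have hpos : 1 ≤ Module.finrank F (LinearMap.ker (x - 1)) :=
    le_trans hWpos (Submodule.finrank_mono hfix)
  have hle3 : Module.finrank F (LinearMap.ker (x - 1)) ≤ 3 := h3 ▸ Submodule.finrank_le _
  rcases hle3.lt_or_eq with h | h
  · exact step _ _ h (by omega) hall
  · have : LinearMap.ker (x - 1) = ⊤ := Submodule.eq_top_of_finrank_eq (h.trans h3.symm)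
    exact hx1 (sub_eq_zero.mp (LinearMap.ker_eq_top.mp this))

/-- An element commuting with an element of order `r` has no eigenvalue unless it is scalar. -/
theorem scalar_of_commute (h3 : Module.finrank F V = 3) (hr1 : ¬ r ∣ Fintype.card F)
    (hr2 : ¬ r ∣ Fintype.card F ^ 2 - 1) {x y : Module.End F V} (hx : x ^ r = 1) (hx1 : x ≠ 1)
    (hxy : Commute x y) {a : F} {v : V} (hv : v ≠ 0) (he : y v = a • v) : y = a • 1 := by
  by_contra hne
  refine no_invariant h3 hr1 hr2 hx hx1 (W := LinearMap.ker (y - a • 1)) (fun h => hv ?_) (fun h => hne ?_) ?_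
  · have : v ∈ LinearMap.ker (y - a • 1) := by simp [he]
    rwa [h, Submodule.mem_bot] at this
  · exact sub_eq_zero.mp (LinearMap.ker_eq_top.mp h)
  · intro w hw
    simp only [LinearMap.mem_ker, LinearMap.sub_apply, LinearMap.smul_apply, Module.End.one_apply, sub_eq_zero] at hw ⊢
    rw [← Module.End.mul_apply, ← hxy.eq, Module.End.mul_apply, hw, map_smul]

theorem big_eigenspace (h3 : Module.finrank F V = 3) {y : Module.End F V} (hy : y * y = 1) :
    ∃ e : F, e * e = 1 ∧ 2 ≤ Module.finrank F (LinearMap.ker (y - e • 1)) := by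
  have hle : LinearMap.range (y - (-1 : F) • 1) ≤ LinearMap.ker (y - (1 : F) • 1) := by
    rintro _ ⟨v, rfl⟩
    have hyy : y (y v) = v := by rw [← Module.End.mul_apply, hy, Module.End.one_apply]
    rw [LinearMap.mem_ker]
    simp only [LinearMap.sub_apply, LinearMap.smul_apply, Module.End.one_apply, map_sub, map_smul, hyy]
    module
  have h1 := Submodule.finrank_mono hle
  have h2 := LinearMap.finrank_range_add_finrank_ker (y - (-1 : F) • 1)
  rw [h3] at h2
  by_cases h : 2 ≤ Module.finrank F (LinearMap.ker (y - (1 : F) • 1))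
  · exact ⟨1, one_mul 1, h⟩
  · exact ⟨-1, by ring, by omega⟩

/-- An element of order `r` is not inverted by an involution. -/
theorem no_inversion (h3 : Module.finrank F V = 3) (hr1 : ¬ r ∣ Fintype.card F)
    (hr2 : ¬ r ∣ Fintype.card F ^ 2 - 1) {x y : Module.End F V} (hx : x ^ r = 1) (hx1 : x ≠ 1)
    (hy : y * y = 1) (hyx : y * x * (y * x) = 1) : False := by
  obtain ⟨e, he, hde⟩ := big_eigenspace h3 hy
  obtain ⟨e', -, hde'⟩ := big_eigenspace h3 hyx
  have hsum := Submodule.finrank_sup_add_finrank_inf_eq (LinearMap.ker (y - e • 1))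
    (LinearMap.ker (y * x - e' • 1))
  have hle := Submodule.finrank_le (R := F) (LinearMap.ker (y - e • 1) ⊔ LinearMap.ker (y * x - e' • 1))
  rw [h3] at hle
  obtain ⟨v, hv, hv0⟩ := Submodule.exists_mem_ne_zero_of_ne_bot (p := LinearMap.ker (y - e • 1) ⊓
    LinearMap.ker (y * x - e' • 1)) (fun h => by rw [h, finrank_bot] at hsum; omega)
  obtain ⟨hv1, hv2⟩ := hv
  simp only [LinearMap.mem_ker, SetLike.mem_coe, LinearMap.sub_apply, LinearMap.smul_apply, Module.End.one_apply,
    sub_eq_zero, Module.End.mul_apply] at hv1 hv2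
  have hxv : x v = (e' * e) • v := by
    have := congrArg y hv2
    rwa [← Module.End.mul_apply y y, hy, Module.End.one_apply, map_smul, hv1, smul_smul] at this
  refine no_invariant h3 hr1 hr2 hx hx1 (W := Submodule.span F {v}) (by simpa using hv0) (fun h => ?_) ?_
  · have := finrank_span_singleton (K := F) hv0
    rw [h, finrank_top, h3] at this
    omega
  · intro w hw
    obtain ⟨a, rfl⟩ := Submodule.mem_span_singleton.mp hw
    rw [map_smul, hxv, smul_smul]
    exact Submodule.mem_span_singleton.mpr ⟨_, rfl⟩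

/-- An element of prime order `l` dividing `|F| - 1` has an eigenvector. -/
theorem exists_eigen [Nontrivial V] {l : ℕ} (hl : l.Prime) (hlF : l ∣ Fintype.card F - 1)
    {y : Module.End F V} (hy : y ^ l = 1) : ∃ a : F, a ^ l = 1 ∧ ∃ v : V, v ≠ 0 ∧ y v = a • v := by
  classical
  obtain ⟨g, hg⟩ : ∃ g : Fˣ, orderOf g = l := by
    haveI := Fact.mk hl
    exact exists_prime_orderOf_dvd_card' l (by rwa [Nat.card_units, Nat.card_eq_fintype_card])
  have hprim : IsPrimitiveRoot (g : F) l := by
    rw [← hg, ← orderOf_units]; exact IsPrimitiveRoot.orderOf _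
  have h := congrArg (Polynomial.aeval y) (Polynomial.X_pow_sub_one_eq_prod hl.pos hprim)
  rw [map_sub, map_pow, Polynomial.aeval_X, map_one, hy, sub_self] at h
  by_contra hne
  push Not at hne
  have hinj : ∀ s : List F, (∀ a ∈ s, a ^ l = 1) →
      Function.Injective (Polynomial.aeval y ((s.map fun a => Polynomial.X - Polynomial.C a).prod)) := by
    intro s
    induction s with
    | nil => intro _; simp [Module.End.one_eq_id, Function.injective_id]
    | cons a s ih =>
      intro hs
      rw [List.map_cons, List.prod_cons, map_mul, Module.End.coe_mul]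
      refine Function.Injective.comp ?_ (ih fun b hb => hs b (List.mem_cons_of_mem _ hb))
      rw [← LinearMap.ker_eq_bot, Submodule.eq_bot_iff]
      intro v hv
      by_contra hv0
      simp only [map_sub, Polynomial.aeval_X, Polynomial.aeval_C, LinearMap.mem_ker, LinearMap.sub_apply,
        Module.algebraMap_end_apply, sub_eq_zero] at hv
      exact hne a (hs a (List.mem_cons_self ..)) v hv0 hv
  have hs := hinj (Polynomial.nthRootsFinset l (1 : F)).toList (fun a ha => by
    rw [Finset.mem_toList, Polynomial.mem_nthRootsFinset hl.pos] at ha; exact ha)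
  rw [Finset.prod_map_toList, ← h] at hs
  obtain ⟨v, hv⟩ := exists_ne (0 : V)
  exact hv (hs (by simp))

end Linear

/-- No element of order `r`: the Sylow argument. -/
theorem no_prime_order {H : Type*} [Group H] [Finite H] {r m : ℕ} [Fact r.Prime] (hcard : Nat.card H = r * m)
    (hrm : ¬ r ∣ m) (hinv : ∀ x y : H, orderOf x = r → orderOf y = 2 → y * x * y⁻¹ = x → False)
    (hinv' : ∀ x y : H, orderOf x = r → orderOf y = 2 → y * x * y⁻¹ = x⁻¹ → False)
    (l : ℕ) [Fact l.Prime] (hlr : ¬ l ∣ r - 1)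
    (hfive : l ∣ m → ∀ x y : H, orderOf x = r → orderOf y = l → y * x * y⁻¹ = x → False)
    (bad : ℕ) (hbad : Nat.card (Sylow r H) ≠ bad)
    (hdec : ∀ k < m / r + 1, k * r + 1 ∣ m → 2 ∣ m / (k * r + 1) ∨ l ∣ m / (k * r + 1) ∨ k * r + 1 = bad) :
    False := by
  classical
  have hr := (Fact.out : r.Prime)
  obtain ⟨P⟩ : Nonempty (Sylow r H) := inferInstance
  have hPc : Nat.card (P : Subgroup H) = r := by
    rw [P.card_eq_multiplicity, hcard, Nat.factorization_mul hr.ne_zero (fun h => hrm (by rw [h]; exact dvd_zero r)),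
      Finsupp.add_apply, hr.factorization_self, Nat.factorization_eq_zero_of_not_dvd hrm, pow_one]
  obtain ⟨x, hx⟩ := exists_prime_orderOf_dvd_card' (G := (P : Subgroup H)) r (dvd_of_eq hPc.symm)
  have hx' : orderOf (x : H) = r := by rw [Subgroup.orderOf_coe]; exact hx
  set n := Nat.card (Sylow r H)
  have hn1 : n ≡ 1 [MOD r] := card_sylow_modEq_one r H
  have hnm : n ∣ m := by
    have := Sylow.card_dvd_index P
    have h2 := (P : Subgroup H).card_mul_index
    rw [hPc, hcard] at h2
    rwa [Nat.eq_of_mul_eq_mul_left hr.pos h2] at this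
  have hn0 : 0 < n := Nat.card_pos
  have hm0 : 0 < m := Nat.pos_of_ne_zero fun h => hrm (h.symm ▸ dvd_zero r)
  have hnk : n / r * r + 1 = n := by
    have h := Nat.div_add_mod n r
    have : n % r = 1 := by rw [hn1, Nat.one_mod_eq_one]; exact hr.ne_one
    rw [this, mul_comm] at h
    exact h
  have hN : Nat.card (Subgroup.normalizer ((P : Subgroup H) : Set H)) = r * (m / n) := by
    have h := (Subgroup.normalizer ((P : Subgroup H) : Set H)).card_mul_index
    erw [← P.card_eq_index_normalizer, hcard] at h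
    refine Nat.eq_of_mul_eq_mul_right hn0 (h.trans ?_)
    rw [mul_assoc, Nat.div_mul_cancel hnm]
  have hconj : ∀ y ∈ Subgroup.normalizer ((P : Subgroup H) : Set H), ∃ k : ℕ, y * (x : H) * y⁻¹ = (x : H) ^ k := by
    intro y hy
    have hmem := (Subgroup.mem_normalizer_iff.mp hy (x : H)).mp x.2
    have htop : Subgroup.zpowers x = ⊤ := Subgroup.eq_top_of_card_eq _ (by rw [Nat.card_zpowers, hx, hPc])
    obtain ⟨k, hk⟩ := (mem_powers_iff_mem_zpowers (x := x) (y := ⟨_, hmem⟩)).mpr (htop ▸ Subgroup.mem_top _)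
    exact ⟨k, (congrArg Subtype.val hk).symm⟩
  have hiter : ∀ (y : H) (k : ℕ), y * (x : H) * y⁻¹ = (x : H) ^ k → ∀ j : ℕ,
      y ^ j * (x : H) * (y ^ j)⁻¹ = (x : H) ^ (k ^ j) := by
    intro y k hk j
    induction j with
    | zero => simp
    | succ j ih =>
      calc y ^ (j + 1) * (x : H) * (y ^ (j + 1))⁻¹ = y * (y ^ j * (x : H) * (y ^ j)⁻¹) * y⁻¹ := by
            rw [pow_succ']; group
        _ = (y * (x : H) * y⁻¹) ^ (k ^ j) := by rw [ih, conj_pow]
        _ = (x : H) ^ (k ^ (j + 1)) := by rw [hk, ← pow_mul, pow_succ']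
  have hzmod : ∀ (y : H) (k j : ℕ), y * (x : H) * y⁻¹ = (x : H) ^ k → y ^ j = 1 → ((k : ZMod r)) ^ j = 1 := by
    intro y k j hk hj
    have h := hiter y k hk j
    rw [hj, inv_one, mul_one, one_mul] at h
    have h' : (x : H) ^ 1 = (x : H) ^ (k ^ j) := by rw [pow_one]; exact h
    rw [pow_eq_pow_iff_modEq, hx'] at h'
    have := (ZMod.natCast_eq_natCast_iff 1 (k ^ j) r).mpr h'
    rw [Nat.cast_one, Nat.cast_pow] at this
    exact this.symm
  have hpow_eq : ∀ k j : ℕ, (k : ZMod r) = (j : ZMod r) → (x : H) ^ k = (x : H) ^ j := by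
    intro k j h
    rw [pow_eq_pow_iff_modEq, hx']
    exact (ZMod.natCast_eq_natCast_iff k j r).mp h
  have hlt : n / r < m / r + 1 := Nat.lt_succ_of_le (Nat.div_le_div_right (Nat.le_of_dvd hm0 hnm))
  have hd := hdec (n / r) hlt (by rw [hnk]; exact hnm)
  rw [hnk] at hd
  rcases hd with h2 | hl | hb
  rotate_right
  · exact hbad hb
  · obtain ⟨⟨y, hy⟩, hyo⟩ := exists_prime_orderOf_dvd_card'
      (G := Subgroup.normalizer ((P : Subgroup H) : Set H)) 2 (by rw [hN]; exact dvd_mul_of_dvd_right h2 r)
    rw [Subgroup.orderOf_mk] at hyo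
    obtain ⟨k, hk⟩ := hconj y hy
    have hk2 := hzmod y k 2 hk (by rw [← hyo]; exact pow_orderOf_eq_one y)
    rcases sq_eq_one_iff.mp hk2 with h1 | h1
    · exact hinv _ y hx' hyo (by rw [hk, hpow_eq k 1 (by rw [h1, Nat.cast_one]), pow_one])
    · refine hinv' _ y hx' hyo ?_
      have h3 : (x : H) ^ (k + 1) = (x : H) ^ 0 := hpow_eq _ _ (by push_cast; rw [h1]; ring)
      rw [pow_succ, pow_zero] at h3
      rw [hk]
      exact eq_inv_of_mul_eq_one_left h3
  · obtain ⟨⟨y, hy⟩, hyo⟩ := exists_prime_orderOf_dvd_card'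
      (G := Subgroup.normalizer ((P : Subgroup H) : Set H)) l (by rw [hN]; exact dvd_mul_of_dvd_right hl r)
    rw [Subgroup.orderOf_mk] at hyo
    obtain ⟨k, hk⟩ := hconj y hy
    have hkl := hzmod y k l hk (by rw [← hyo]; exact pow_orderOf_eq_one y)
    have hk0 : (k : ZMod r) ≠ 0 := fun h0 => by
      rw [h0, zero_pow (Fact.out : l.Prime).ne_zero] at hkl; exact zero_ne_one hkl
    have h3 := pow_gcd_eq_one.mpr ⟨hkl, ZMod.pow_card_sub_one_eq_one hk0⟩
    rw [((Fact.out : l.Prime).coprime_iff_not_dvd.mpr hlr).gcd_eq_one, pow_one] at h3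
    exact hfive (hl.trans (Nat.div_dvd_of_dvd hnm)) _ y hx' hyo (by rw [hk, hpow_eq k 1 (by rw [h3, Nat.cast_one]), pow_one])

end CfsgLib.PSU3Min
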