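import Cfsg.Agent.Lib.PSU3Min.Torus
import Cfsg.Agent.Lib.PSU3Min.Semi

/-!
The least index of a proper subgroup of `PSU₃(q)`, `q ≠ 5`.
-/

set_option autoImplicit false
set_option linter.unusedSectionVars false
set_option maxRecDepth 100000

namespace CfsgLib.PSU3Min

open Matrix CfsgLib.PSUBorel

variable {F : Type*} [Field F] [Fintype F] (c : Conj F)

local notation "G" => SUs c 3
local notation "V" => Fin 3 → F

/-- The natural action. -/
noncomputable def toEnd : G →* Module.End F V where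
  toFun g := Matrix.toLinAlgEquiv' g.1.1
  map_one' := by rw [coe_one, map_one]
  map_mul' g h := by rw [coe_mul, map_mul]

theorem toEnd_inj : Function.Injective (toEnd c) := fun _ _ e =>
  SUs_ext c (Matrix.toLinAlgEquiv'.injective e)

theorem scalar_center {g : G} {a : F} (h : toEnd c g = a • 1) : g ∈ Subgroup.center G := by
  refine Subgroup.mem_center_iff.mpr fun y => toEnd_inj c ?_
  rw [map_mul, map_mul, h, mul_smul_comm, smul_mul_assoc, one_mul, mul_one]

/-- A prime `r` with `r ∤ q (q⁴ - 1)` cannot divide the order of a subgroup of suitable shape. -/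
theorem kill (H : Subgroup G) {r m bad : ℕ} [Fact r.Prime] (hcard : Nat.card H = r * m)
    (hrm : ¬ r ∣ m) (hrq : ¬ r ∣ c.q) (hr4 : ¬ r ∣ c.q ^ 4 - 1) (h5r : ¬ 5 ∣ r - 1)
    (h5m : 5 ∣ m → 5 ∣ c.q ^ 2 - 1) (hbad : Nat.card (Sylow r H) ≠ bad)
    (hdec : ∀ k < m / r + 1, k * r + 1 ∣ m → 2 ∣ m / (k * r + 1) ∨ 5 ∣ m / (k * r + 1) ∨ k * r + 1 = bad) :
    False := by
  have hr := (Fact.out : r.Prime)
  have h3 : Module.finrank F V = 3 := Module.finrank_fin_fun F
  have hr1 : ¬ r ∣ Fintype.card F := by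
    rw [c.card]; exact fun h => hrq (hr.dvd_of_dvd_pow h)
  have hr2 : ¬ r ∣ Fintype.card F ^ 2 - 1 := by rwa [c.card, ← pow_mul]
  have hx : ∀ x : H, orderOf x = r → toEnd c (x : G) ^ r = 1 ∧ toEnd c (x : G) ≠ 1 := by
    intro x ho
    refine ⟨by rw [← map_pow, ← SubgroupClass.coe_pow, ← ho, pow_orderOf_eq_one, OneMemClass.coe_one, map_one],
      fun e => ?_⟩
    have : (x : G) = 1 := toEnd_inj c (by rw [e, map_one])
    rw [← Subgroup.orderOf_coe, this, orderOf_one] at ho
    exact hr.ne_one ho.symm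
  have hcentral : ∀ (y : H) (l : ℕ), Nat.Prime l → l ≠ 3 → orderOf y = l → (y : G) ∉ Subgroup.center G := by
    intro y l hl hl3 ho hy
    have h := orderOf_dvd_natCard (⟨(y : G), hy⟩ : Subgroup.center G)
    rw [Subgroup.orderOf_mk, Subgroup.orderOf_coe, ho] at h
    exact hl3 ((Nat.prime_dvd_prime_iff_eq hl Nat.prime_three).mp (h.trans (card_center c).1))
  have hcomm : ∀ x y : H, y * x * y⁻¹ = x → Commute (toEnd c (x : G)) (toEnd c (y : G)) := fun x y h => by
    have : Commute x y := (mul_inv_eq_iff_eq_mul.mp h).symm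
    exact (this.map H.subtype).map (toEnd c)
  have hsq : ∀ y : H, orderOf y = 2 → toEnd c (y : G) * toEnd c (y : G) = 1 := fun y ho => by
    have := pow_orderOf_eq_one y
    rw [ho, pow_two] at this
    rw [← map_mul, ← Subgroup.coe_mul, this, OneMemClass.coe_one, map_one]
  haveI : Fact (Nat.Prime 5) := ⟨Nat.prime_five⟩
  refine no_prime_order hcard hrm (fun x y hxo hyo h => ?_) (fun x y hxo hyo h => ?_) 5 (hlr := h5r)
    (fun h5 x y hxo hyo h => ?_) bad hbad hdec
  · obtain ⟨e, -, he⟩ := big_eigenspace h3 (hsq y hyo)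
    obtain ⟨v, hv, hv0⟩ := Submodule.exists_mem_ne_zero_of_ne_bot
      (p := LinearMap.ker (toEnd c (y : G) - e • 1)) (fun h0 => by rw [h0, finrank_bot] at he; omega)
    have hev : toEnd c (y : G) v = e • v := by
      simpa [sub_eq_zero] using hv
    exact hcentral y 2 Nat.prime_two (by norm_num) hyo
      (scalar_center c (scalar_of_commute h3 hr1 hr2 (hx x hxo).1 (hx x hxo).2 (hcomm x y h) hv0 hev))
  · refine no_inversion h3 hr1 hr2 (hx x hxo).1 (hx x hxo).2 (hsq y hyo) ?_
    have hy2 := pow_orderOf_eq_one y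
    rw [hyo, pow_two] at hy2
    have hyi : y⁻¹ = y := inv_eq_of_mul_eq_one_right hy2
    rw [hyi] at h
    rw [← map_mul, ← map_mul, ← Subgroup.coe_mul, ← Subgroup.coe_mul, ← mul_assoc, h, inv_mul_cancel,
      OneMemClass.coe_one, map_one]
  · have hp5 : Nat.Prime 5 := Nat.prime_five
    obtain ⟨a, -, v, hv, hev⟩ := exists_eigen (l := 5) hp5
      (by rw [c.card]; exact h5m h5) (y := toEnd c (y : G))
      (by rw [← map_pow, ← SubgroupClass.coe_pow, ← hyo, pow_orderOf_eq_one, OneMemClass.coe_one, map_one])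
    exact hcentral y 5 hp5 (by norm_num) hyo
      (scalar_center c (scalar_of_commute h3 hr1 hr2 (hx x hxo).1 (hx x hxo).2 (hcomm x y h) hv hev))

theorem decQ9 : ∀ i : Fin 7, ∀ cc ∈ ({1, 2, 4, 5, 10, 20} : Finset ℕ), 80 ≤ 3 ^ (i : ℕ) * cc →
    ∀ k < 10 * (3 ^ (i : ℕ) * cc) / 73 + 1, k * 73 + 1 ∣ 10 * (3 ^ (i : ℕ) * cc) →
      2 ∣ 10 * (3 ^ (i : ℕ) * cc) / (k * 73 + 1) ∨ 5 ∣ 10 * (3 ^ (i : ℕ) * cc) / (k * 73 + 1) ∨ k * 73 + 1 = 0 := by
  decide +kernel

/-- Counting elements of order 37 and 11 at `q = 11`. -/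
theorem eleven_count (p : ℕ) [Fact p.Prime] [CharP F p] [Fact (Nat.Prime 37)] (hq : c.q = 11) (H : Subgroup G)
    (hZ : Subgroup.center G ≤ H) (hidx : H.index ≤ c.q ^ 3)
    (hs : Nat.card (H ⊓ UG c : Subgroup G) = 11) (hc : Nat.card (cornerImage c H) = 30) :
    Nat.card (Sylow 37 H) ≠ 3960 := by
  classical
  intro hn
  have hH : Nat.card H = 439560 := by
    rw [(basic c p H hidx).1, hs, hc, hq]; norm_num
  have hC : Nat.card (Subgroup.center G) = 3 := by
    obtain ⟨E⟩ := exists_iso c (n := 3)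
    rw [Nat.card_congr (Subgroup.centerCongr E).toEquiv, Cfsg.Agent.S0280.center_card c.card 3 (by norm_num), hq]
    rfl
  -- elements of order 37 times the centre
  let A := Subgroup.center G × (Σ P : Sylow 37 H, {x : (P : Subgroup H) // x ≠ 1})
  have hPc : ∀ P : Sylow 37 H, Nat.card (P : Subgroup H) = 37 := fun P => by
    rw [P.card_eq_multiplicity, hH, show (439560 : ℕ) = 37 * 11880 by norm_num,
      Nat.factorization_mul (by norm_num) (by norm_num), Finsupp.add_apply,
      (by norm_num : Nat.Prime 37).factorization_self,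
      Nat.factorization_eq_zero_of_not_dvd (by norm_num), pow_one]
  have hA : Nat.card A = 3 * (3960 * 36) := by
    haveI : Fintype (Sylow 37 H) := Fintype.ofFinite _
    have hP36 : ∀ P : Sylow 37 H, Nat.card {x : (P : Subgroup H) // x ≠ 1} = 36 := fun P => by
      haveI : Fintype (P : Subgroup H) := Fintype.ofFinite _
      rw [Nat.card_eq_fintype_card, Fintype.card_subtype_compl, Fintype.card_subtype_eq]
      have := hPc P
      rw [Nat.card_eq_fintype_card] at this
      omega
    rw [Nat.card_prod, hC, Nat.card_sigma]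
    refine congrArg (3 * ·) ((Finset.sum_congr rfl fun P _ => hP36 P).trans ?_)
    rw [Finset.sum_const, Finset.card_univ, ← Nat.card_eq_fintype_card (α := Sylow 37 H), hn, smul_eq_mul]
  -- elements of order 11
  let B := (G ⧸ BG c) × {u : (H ⊓ UG c : Subgroup G) // u ≠ 1}
  have hB : Nat.card B = 1332 * 10 := by
    haveI : Fintype (H ⊓ UG c : Subgroup G) := Fintype.ofFinite _
    rw [Nat.card_prod, show Nat.card (G ⧸ BG c) = (BG c).index from rfl, index_BG c p, hq,
      Nat.card_eq_fintype_card (α := {u : (H ⊓ UG c : Subgroup G) // u ≠ 1}), Fintype.card_subtype_compl,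
      Fintype.card_subtype_eq, ← Nat.card_eq_fintype_card, hs]
    norm_num
  have hout : ∀ x : G ⧸ BG c, ∃ h : H, ((h : G) : G ⧸ BG c) = x := by
    intro x
    obtain ⟨g, rfl⟩ := QuotientGroup.mk_surjective x
    obtain ⟨h, hh, b, hb', rfl⟩ := transitive c p H hidx g
    exact ⟨⟨h, hh⟩, QuotientGroup.eq.mpr (by simpa using hb')⟩
  choose hf hhf using hout
  let f : A ⊕ B → H := Sum.elim (fun a => ⟨a.1.1, hZ a.1.2⟩ * a.2.2.1.1)
    (fun b => hf b.1 * ⟨b.2.1.1, b.2.1.2.1⟩ * (hf b.1)⁻¹)
  have h37 : ∀ a : A, (a.2.2.1.1 : H) ^ 37 = 1 := fun a => by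
    have := pow_card_eq_one' (x := a.2.2.1)
    rw [hPc] at this
    exact congrArg Subtype.val this
  have h3 : ∀ a : A, (⟨a.1.1, hZ a.1.2⟩ : H) ^ 3 = 1 := fun a => by
    apply Subtype.ext
    have := pow_card_eq_one' (x := a.1)
    rw [hC] at this
    rw [SubgroupClass.coe_pow, OneMemClass.coe_one]
    exact congrArg Subtype.val this
  have hcen : ∀ a : A, Commute (⟨a.1.1, hZ a.1.2⟩ : H) a.2.2.1.1 := fun a => by
    apply Subtype.ext
    exact (Subgroup.mem_center_iff.mp a.1.2 _).symm
  have h11 : ∀ u : (H ⊓ UG c : Subgroup G), u.1 ^ 11 = 1 := fun u => by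
    have := pow_card_eq_one' (x := u)
    rw [hs] at this
    exact congrArg Subtype.val this
  have hne : ∀ a : A, a.2.2.1.1 ≠ 1 := fun a e => a.2.2.2 (Subtype.ext e)
  have hmix : ∀ (a : A) (b : B), f (Sum.inl a) ≠ f (Sum.inr b) := by
    intro a b e
    have e1 : (f (Sum.inr b)) ^ 11 = 1 := by
      show (hf b.1 * _ * (hf b.1)⁻¹) ^ 11 = 1
      rw [conj_pow, show (⟨b.2.1.1, b.2.1.2.1⟩ : H) ^ 11 = 1 from Subtype.ext (by
        rw [SubgroupClass.coe_pow]; exact h11 b.2.1), mul_one, mul_inv_cancel]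
    rw [← e] at e1
    change (_ * _) ^ 11 = 1 at e1
    have e2 : (a.2.2.1.1 : H) ^ 33 = 1 := by
      have := congrArg (fun z : H => z ^ 3) e1
      simp only [one_pow, ← pow_mul] at this
      rwa [(hcen a).mul_pow, show (⟨a.1.1, hZ a.1.2⟩ : H) ^ (11 * 3) = 1 by
        rw [mul_comm, pow_mul, h3, one_pow], one_mul] at this
    have := pow_gcd_eq_one.mpr ⟨h37 a, e2⟩
    rw [show Nat.gcd 37 33 = 1 by rfl, pow_one] at this
    exact hne a this
  have hinj : Function.Injective f := by
    rintro (a | b) (a' | b') e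
    · obtain ⟨z, P, ⟨x, hx⟩⟩ := a
      obtain ⟨z', P', ⟨x', hx'⟩⟩ := a'
      have e' : (⟨z.1, hZ z.2⟩ : H) * x.1 = (⟨z'.1, hZ z'.2⟩ : H) * x'.1 := e
      have e3 := congrArg (fun w : H => w ^ 3) e'
      simp only [(hcen ⟨z, P, ⟨x, hx⟩⟩).mul_pow, (hcen ⟨z', P', ⟨x', hx'⟩⟩).mul_pow, h3 ⟨z, P, ⟨x, hx⟩⟩,
        h3 ⟨z', P', ⟨x', hx'⟩⟩, one_mul] at e3
      have hxx : x.1 = x'.1 := by
        calc x.1 = x.1 ^ (3 * 25) := by
              rw [show 3 * 25 = 37 * 2 + 1 by norm_num, pow_succ, pow_mul, h37 ⟨z, P, ⟨x, hx⟩⟩, one_pow, one_mul]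
          _ = x'.1 ^ (3 * 25) := by rw [pow_mul, e3, ← pow_mul]
          _ = x'.1 := by
              rw [show 3 * 25 = 37 * 2 + 1 by norm_num, pow_succ, pow_mul, h37 ⟨z', P', ⟨x', hx'⟩⟩, one_pow, one_mul]
      have hzz : z = z' := by
        rw [hxx] at e'
        exact Subtype.ext (congrArg (fun w : H => (w : G)) (mul_right_cancel e'))
      subst hzz
      have hPP : P = P' := by
        have hz : ∀ (Q : Sylow 37 H) (y : (Q : Subgroup H)), y ≠ 1 → (Q : Subgroup H) = Subgroup.zpowers y.1 :=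
          fun Q y hy => (Subgroup.eq_of_le_of_card_ge (Subgroup.zpowers_le.mpr y.2) (by
            rw [Nat.card_zpowers, hPc]
            have h1 := orderOf_dvd_natCard y
            rw [hPc] at h1
            rcases (Nat.dvd_prime (by norm_num)).mp h1 with h | h
            · exact absurd (orderOf_eq_one_iff.mp h) hy
            · rw [Subgroup.orderOf_coe, h])).symm
        exact Sylow.ext ((hz P x hx).trans (by rw [hxx]; exact (hz P' x' hx').symm))
      subst hPP
      obtain rfl : x = x' := Subtype.ext hxx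
      rfl
    · exact absurd e (hmix a b')
    · exact absurd e.symm (hmix a' b)
    · obtain ⟨x, u, hu⟩ := b
      obtain ⟨x', u', hu'⟩ := b'
      have e' : (hf x : G) * u.1 * (hf x : G)⁻¹ = (hf x' : G) * u'.1 * (hf x' : G)⁻¹ :=
        congrArg Subtype.val e
      have hxx : x = x' := by
        rw [← hhf x, ← hhf x']
        refine QuotientGroup.eq.mpr (ti c u.2.2 (fun h => hu (Subtype.ext h)) ?_)
        have : ((hf x : G)⁻¹ * (hf x' : G))⁻¹ * u.1 * ((hf x : G)⁻¹ * (hf x' : G)) = u'.1 := by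
          calc _ = (hf x' : G)⁻¹ * ((hf x : G) * u.1 * (hf x : G)⁻¹) * (hf x' : G) := by group
            _ = u'.1 := by rw [e']; group
        rw [this]
        exact u'.2.2
      subst hxx
      obtain rfl : u = u' := Subtype.ext (mul_left_cancel (mul_right_cancel e'))
      rfl
  have := Nat.card_le_card_of_injective f hinj
  rw [Nat.card_sum, hA, hB, hH] at this
  norm_num at this

include c in
/-- The lower bound in `SU₃(q)`. -/
theorem index_lower (hq : 3 ≤ c.q) (h5 : c.q ≠ 5) (H : Subgroup G) (hZ : Subgroup.center G ≤ H)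
    (hne : H ≠ ⊤) : c.q ^ 3 + 1 ≤ H.index := by
  classical
  by_contra hcon
  have hidx : H.index ≤ c.q ^ 3 := by omega
  obtain ⟨n, hp, hn⟩ := FiniteField.card F (ringChar F)
  obtain ⟨p, rfl⟩ : ∃ p, p = ringChar F := ⟨_, rfl⟩
  haveI := Fact.mk hp
  obtain ⟨f, hf0, hqf⟩ := exists_pow_q c (ringChar F)
  obtain ⟨hH, hb⟩ := basic c (ringChar F) H hidx
  have hsd := card_inf_UG_dvd c (ringChar F) H
  have hcd := cornerImage_dvd c H
  set p := ringChar F
  set s := Nat.card (H ⊓ UG c : Subgroup G) with hs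
  set cc := Nat.card (cornerImage c H) with hcc
  have hspos : 0 < s := Nat.card_pos
  have hsp : ∃ i, s = p ^ i := by
    rw [hqf, ← pow_mul] at hsd
    obtain ⟨i, -, hi⟩ := (Nat.dvd_prime_pow hp).mp hsd
    exact ⟨i, hi⟩
  obtain ⟨i, hi⟩ := hsp
  have key : ∀ (r m bad : ℕ), r.Prime → Nat.card H = r * m → ¬ r ∣ m → ¬ r ∣ c.q → ¬ r ∣ c.q ^ 4 - 1 →
      ¬ 5 ∣ r - 1 → (5 ∣ m → 5 ∣ c.q ^ 2 - 1) → Nat.card (Sylow r H) ≠ bad →
      (∀ k < m / r + 1, k * r + 1 ∣ m → 2 ∣ m / (k * r + 1) ∨ 5 ∣ m / (k * r + 1) ∨ k * r + 1 = bad) → False := by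
    intro r m bad hr a1 a2 a3 a4 a5 a6 a7 a8
    haveI := Fact.mk hr
    exact kill c H a1 a2 a3 a4 a5 a6 a7 a8
  have hsyl : ∀ r, Nat.card (Sylow r H) ≠ 0 := fun r => by
    by_cases hr : r.Prime
    · haveI := Fact.mk hr; exact Nat.card_pos.ne'
    · exact Nat.card_pos.ne'
  by_cases hT : H ⊓ ZG c = ⊥
  · obtain ⟨hsle, hrest⟩ := no_transvection_shape c p H hT
    by_cases hs1 : s = 1
    · -- coprime to `p`
      rw [hs1, one_mul] at hb hH
      have hcfull : cc = c.q ^ 2 - 1 :=
        le_antisymm (Nat.le_of_dvd (Nat.sub_pos_of_lt (Nat.one_lt_pow two_ne_zero c.one_lt)) hcd) hb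
      obtain ⟨ζ, hζ⟩ : ∃ ζ : Fˣ, orderOf ζ = c.q + 1 := by
        obtain ⟨g, hg⟩ := IsCyclic.exists_ofOrder_eq_natCard (α := Fˣ)
        refine ⟨g ^ (c.q - 1), ?_⟩
        rw [orderOf_pow, hg, card_units c, ← one_pow 2, Nat.sq_sub_sq, one_pow, Nat.gcd_mul_left_left,
          Nat.mul_div_cancel _ (by omega)]
      have htop : cornerImage c H = ⊤ := Subgroup.eq_top_of_card_eq _ (by rw [card_units c]; exact hcfull)
      obtain ⟨b, hb1, hb2, hb3, hb4⟩ := homology_bound c p H hidx hT ζ (htop ▸ Subgroup.mem_top ζ)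
        (hζ ▸ pow_orderOf_eq_one ζ) (fun h => by
          have := Nat.le_of_dvd (by norm_num) (orderOf_dvd_of_pow_eq_one h)
          omega)
      have hg : Nat.card {x : Fˣ // x ∈ cornerImage c H ∧ x ^ (c.q + 1) = 1} ≤ c.q + 1 := by
        refine le_trans (Nat.card_le_card_of_injective (β := {x : F // x ^ (c.q + 1) = 1})
          (fun x => ⟨(x.1 : F), by rw [← Units.val_pow_eq_pow_val, x.2.2, Units.val_one]⟩) ?_)
          (card_pow_eq_le (Nat.succ_pos _) _)
        intro x y e
        exact Subtype.ext (Units.ext (congrArg Subtype.val e))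
      rw [← hcc, hcfull] at hb1
      have hb' : c.q ^ 2 - 1 ≤ Nat.gcd 2 (c.q - 1) * b := by
        refine Nat.le_of_mul_le_mul_left (hb1.trans (Nat.le_trans (Nat.mul_le_mul_left _ hg) ?_)) (Nat.succ_pos c.q)
        rw [mul_comm]
      rcases eq_or_ne p 2 with h2 | h2
      · have hev : 2 ∣ c.q := h2 ▸ p_dvd_q c p
        have hg1 : Nat.gcd 2 (c.q - 1) = 1 :=
          (Nat.prime_two.coprime_iff_not_dvd.mpr (not_dvd_sub_one 2 hev (by omega))).gcd_eq_one
        rw [hg1, one_mul] at hb'
        rw [h2] at hb3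
        have hbsmall : b ≤ c.q + 1 := by
          rcases hb4 with h | h | h | h
          · exact h
          all_goals exact absurd (h ▸ (by norm_num : 2 ∣ _)) hb3
        have h9 : 3 * c.q ≤ c.q ^ 2 := by rw [pow_two]; exact Nat.mul_le_mul_right _ hq
        omega
      · have hg2 : Nat.gcd 2 (c.q - 1) ≤ 2 := Nat.le_of_dvd (by norm_num) (Nat.gcd_dvd_left _ _)
        have hle : c.q ^ 2 - 1 ≤ 2 * b := hb'.trans (Nat.mul_le_mul_right _ hg2)
        have hodd : Odd c.q := hqf ▸ (hp.odd_of_ne_two h2).pow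
        have hq11 : c.q ≤ 11 := by
          by_contra hgt
          have h144 : 12 * c.q ≤ c.q ^ 2 := by rw [pow_two]; exact Nat.mul_le_mul_right _ (by omega)
          rcases hb4 with h | h | h | h <;> omega
        rw [hcfull] at hH
        have hq' : c.q = 3 ∨ c.q = 7 ∨ c.q = 9 ∨ c.q = 11 := by
          rcases hodd with ⟨k, hk⟩
          omega
        rcases hq' with h | h | h | h <;> rw [h] at hH hle hb4 hb2
        · exact key 7 32 0 (by norm_num) (by rw [hH] <;> norm_num) (by norm_num) (by rw [h]; norm_num) (by rw [h]; norm_num)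
            (by norm_num) (fun h' => absurd h' (by norm_num)) (hsyl 7) (by decide +kernel)
        · exact key 43 384 0 (by norm_num) (by rw [hH] <;> norm_num) (by norm_num) (by rw [h]; norm_num) (by rw [h]; norm_num)
            (by norm_num) (fun h' => absurd h' (by norm_num)) (hsyl 43) (by decide +kernel)
        · have hp3 : p = 3 := by
            have := (Nat.prime_dvd_prime_iff_eq hp Nat.prime_three).mp
              (hp.dvd_of_dvd_pow (n := 2) (show p ∣ 3 ^ 2 by
                rw [show (3 : ℕ) ^ 2 = c.q by rw [h]; norm_num]; exact p_dvd_q c p))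
            exact this
          rw [hp3] at hb3
          rcases hb4 with e | e | e | e
          · omega
          all_goals omega
        · exact key 37 4320 0 (by norm_num) (by rw [hH] <;> norm_num) (by norm_num) (by rw [h]; norm_num) (by rw [h]; norm_num)
            (by norm_num) (fun _ => by rw [h]; norm_num) (hsyl 37) (by decide +kernel)
    · obtain ⟨h2, hc3⟩ := hrest hs1
      have hodd : Odd c.q := hqf ▸ (hp.odd_of_ne_two h2).pow
      have hq2 : c.q ^ 2 - 1 = (c.q + 1) * (c.q - 1) := by rw [← one_pow 2, Nat.sq_sub_sq, one_pow]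
      have hccle : cc ≤ 3 * (c.q - 1) := Nat.le_of_dvd (by omega) hc3
      rw [hq2] at hb
      -- `s = q`
      have hsq : s = c.q := by
        by_contra hlt
        have hps : p * s ≤ c.q := by
          rw [hi, hqf, ← pow_succ']
          refine Nat.pow_le_pow_right hp.pos ?_
          by_contra hc'
          have : c.q ≤ s := by rw [hi, hqf]; exact Nat.pow_le_pow_right hp.pos (by omega)
          omega
        have h3s : 3 * s ≤ c.q :=
          le_trans (Nat.mul_le_mul_right _ (by have := hp.two_le; omega)) hps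
        have h1 : (c.q + 1) * (c.q - 1) ≤ c.q * (c.q - 1) :=
          calc (c.q + 1) * (c.q - 1) ≤ s * cc := hb
            _ ≤ s * (3 * (c.q - 1)) := Nat.mul_le_mul_left _ hccle
            _ = 3 * s * (c.q - 1) := by ring
            _ ≤ c.q * (c.q - 1) := Nat.mul_le_mul_right _ h3s
        have := Nat.le_of_mul_le_mul_right h1 (by omega)
        omega
      rw [hsq] at hb hH
      have hccgt : c.q - 1 < cc := by
        by_contra hle
        have h1 : (c.q + 1) * (c.q - 1) ≤ c.q * (c.q - 1) := hb.trans (Nat.mul_le_mul_left _ (by omega))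
        have := Nat.le_of_mul_le_mul_right h1 (by omega)
        omega
      obtain ⟨k, hk⟩ := hc3
      have hk2 : k = 1 ∨ k = 2 := by
        have hk0 : k ≠ 0 := fun h => by rw [h, mul_zero] at hk; omega
        rcases lt_or_ge k 3 with h | h
        · omega
        · exfalso
          have h' : cc * 3 ≤ 3 * (c.q - 1) := (Nat.mul_le_mul_left cc h).trans_eq hk.symm
          omega
      have hc2 : 2 ∣ cc := by
        have h := even_borel c p hodd H hidx
        rw [← hs, hsq, ← hcc] at h
        exact (Nat.prime_two.coprime_iff_not_dvd.mpr (fun h' => by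
          rw [Nat.odd_iff] at hodd; omega)).dvd_of_dvd_mul_left h
      obtain ⟨x, hx⟩ : ∃ x : cornerImage c H, orderOf x = 2 := exists_prime_orderOf_dvd_card' 2 hc2
      have hx2 : (x : Fˣ) ^ 2 = 1 := by
        have := pow_orderOf_eq_one x
        rw [hx] at this
        exact congrArg Subtype.val this
      have hx3 : (x : Fˣ) ^ 3 ≠ 1 := fun h => by
        rw [pow_succ, hx2, one_mul] at h
        rw [← Subgroup.orderOf_coe, h, orderOf_one] at hx
        omega
      obtain ⟨b, hb1, hb2, hb3, hb4⟩ := homology_bound c p H hidx hT (x : Fˣ) x.2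
        (by obtain ⟨j, hj⟩ := even_iff_two_dvd.mp hodd.add_one; rw [hj, pow_mul, hx2, one_pow]) hx3
      have hg : Nat.card {x : Fˣ // x ∈ cornerImage c H ∧ x ^ (c.q + 1) = 1} ≤ 6 := by
        refine le_trans (Nat.card_le_card_of_injective (β := {x : F // x ^ 6 = 1})
          (fun y => ⟨(y.1 : F), ?_⟩) (fun a b e => Subtype.ext (Units.ext (congrArg Subtype.val e))))
          (card_pow_eq_le (by norm_num) _)
        have h1 : y.1 ^ cc = 1 :=
          congrArg Subtype.val (pow_card_eq_one' (x := (⟨y.1, y.2.1⟩ : cornerImage c H)))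
        have h2 := pow_gcd_eq_one.mpr ⟨h1, y.2.2⟩
        have hd6 : Nat.gcd cc (c.q + 1) ∣ 6 := by
          have d1 : Nat.gcd cc (c.q + 1) ∣ 3 * (c.q - 1) := (Nat.gcd_dvd_left _ _).trans ⟨k, hk⟩
          have d2 : Nat.gcd cc (c.q + 1) ∣ 3 * (c.q + 1) := (Nat.gcd_dvd_right _ _).trans (dvd_mul_left _ _)
          have := Nat.dvd_sub d2 d1
          rwa [show 3 * (c.q + 1) - 3 * (c.q - 1) = 6 by omega] at this
        obtain ⟨j, hj⟩ := hd6
        rw [← Units.val_pow_eq_pow_val, hj, pow_mul, h2, one_pow, Units.val_one]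
      rw [← hcc] at hb1
      have hb' : (c.q + 1) * cc ≤ 12 * b := hb1.trans (by
        calc _ ≤ 2 * b * 6 := Nat.mul_le_mul (Nat.mul_le_mul_right _
              (Nat.le_of_dvd (by norm_num) (Nat.gcd_dvd_left _ _))) hg
          _ = 12 * b := by ring)
      have hb'' : (c.q + 1) * (c.q - 1) ≤ 8 * b := by
        have : 3 * ((c.q + 1) * (c.q - 1)) ≤ 24 * b := by
          calc 3 * ((c.q + 1) * (c.q - 1)) = (c.q + 1) * (cc * k) := by rw [← hk]; ring
            _ ≤ (c.q + 1) * (cc * 2) := Nat.mul_le_mul_left _ (Nat.mul_le_mul_left _ (by omega))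
            _ ≤ 24 * b := by linarith
        omega
      have hq21 : c.q ≤ 21 := by
        by_contra hgt
        have h22 : 22 * 22 ≤ c.q * c.q := Nat.mul_le_mul (by omega) (by omega)
        have hq21' : 21 * (c.q + 1) ≤ (c.q + 1) * (c.q - 1) := by
          rw [mul_comm 21]; exact Nat.mul_le_mul_left _ (by omega)
        rcases hb4 with h | h | h | h <;> omega
      -- `3 ∣ q + 1`
      have hq3 : c.q % 3 = 2 := by
        have h1 : cc ∣ Nat.gcd ((c.q + 1) * (c.q - 1)) (3 * (c.q - 1)) :=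
          Nat.dvd_gcd (hq2 ▸ hcd) ⟨k, hk⟩
        rw [Nat.gcd_mul_right] at h1
        by_contra h
        have hg1 : Nat.gcd (c.q + 1) 3 = 1 := by
          rw [Nat.gcd_comm]
          exact (Nat.prime_three.coprime_iff_not_dvd.mpr (by omega)).gcd_eq_one
        rw [hg1, one_mul] at h1
        have := Nat.le_of_dvd (by omega) h1
        omega
      have hpp : IsPrimePow c.q := hqf ▸ hp.isPrimePow.pow hf0.ne'
      rw [Nat.odd_iff] at hodd
      have hq' : c.q = 11 ∨ c.q = 17 := by
        rcases (show c.q = 5 ∨ c.q = 11 ∨ c.q = 17 by omega) with h | h | h <;> omega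
      rcases hq' with h | h <;> rw [h] at hb' hb2 hb4 hk hH hb hccgt
      · have hc30 : cc = 30 := by rcases hk2 with e | e <;> subst e <;> omega
        haveI : Fact (Nat.Prime 37) := ⟨by norm_num⟩
        exact key 37 11880 3960 (by norm_num) (by rw [hH, hc30] <;> norm_num) (by norm_num) (by rw [h]; norm_num)
          (by rw [h]; norm_num) (by norm_num) (fun _ => by rw [h]; norm_num)
          (eleven_count c p h H hZ hidx (hsq.trans h) hc30) (by decide +kernel)
      · have hcc24 : 24 ≤ cc := by rcases hk2 with e | e <;> subst e <;> omega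
        rcases hb4 with e | e | e | e
        · omega
        · omega
        · omega
        · rw [e] at hb2
          norm_num at hb2
  · rcases transvection_cases c p hq H hZ hne hidx hT with ⟨h2, ht⟩ | ⟨h9, ht⟩
    · obtain ⟨hcq, hs8⟩ := two_transvections c p h2 H hidx ht
      rw [← hcc] at hcq
      rw [← hs] at hs8
      have hcle : cc ≤ c.q + 1 := Nat.le_of_dvd (Nat.succ_pos _) hcq
      have hsc : s * cc ≤ 8 * (c.q + 1) := Nat.mul_le_mul hs8 hcle
      rw [h2] at hqf hi
      have hf3 : f < 4 := by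
        by_contra hge
        have h16 : 16 ≤ c.q := by
          have := Nat.pow_le_pow_right (show 0 < 2 by norm_num) (show 4 ≤ f by omega)
          omega
        have : 16 * c.q ≤ c.q ^ 2 := by rw [pow_two]; exact Nat.mul_le_mul_right _ h16
        omega
      have hi4 : i < 4 := by
        by_contra hge
        have h16 : 16 ≤ s := by
          have := Nat.pow_le_pow_right (show 0 < 2 by norm_num) (show 4 ≤ i by omega)
          omega
        omega
      rcases (show f = 1 ∨ f = 2 ∨ f = 3 by omega) with rfl | rfl | rfl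
      · omega
      · have hq4 : c.q = 4 := by rw [hqf]; norm_num
        rw [hq4] at hb hH hcq
        have hc5 : cc = 5 := by
          rcases (Nat.dvd_prime Nat.prime_five).mp hcq with e | e
          · rw [e] at hb; omega
          · exact e
        rw [hc5] at hb hH
        rcases (show i = 0 ∨ i = 1 ∨ i = 2 ∨ i = 3 by omega) with rfl | rfl | rfl | rfl <;>
          rw [hi] at hb hH <;> norm_num at hb
        · exact key 13 100 0 (by norm_num) (by rw [hH] <;> norm_num) (by norm_num) (by rw [hq4]; norm_num)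
            (by rw [hq4]; norm_num) (by norm_num) (fun _ => by rw [hq4]; norm_num) (hsyl 13) (by decide +kernel)
        · exact key 13 200 0 (by norm_num) (by rw [hH] <;> norm_num) (by norm_num) (by rw [hq4]; norm_num)
            (by rw [hq4]; norm_num) (by norm_num) (fun _ => by rw [hq4]; norm_num) (hsyl 13) (by decide +kernel)
      · have hq8 : c.q = 8 := by rw [hqf]; norm_num
        rw [hq8] at hb hH hcq
        have hc9 : cc = 9 := by
          obtain ⟨j, hj2, hj⟩ := (Nat.dvd_prime_pow Nat.prime_three).mp (show cc ∣ 3 ^ 2 from hcq)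
          have hs8' : s * cc ≤ 8 * cc := Nat.mul_le_mul_right _ hs8
          have : cc ≤ 9 := Nat.le_of_dvd (by norm_num) hcq
          rcases (show j = 0 ∨ j = 1 ∨ j = 2 by omega) with rfl | rfl | rfl <;> norm_num at hj <;> omega
        rw [hc9] at hb hH
        rcases (show i = 0 ∨ i = 1 ∨ i = 2 ∨ i = 3 by omega) with rfl | rfl | rfl | rfl <;>
          rw [hi] at hb hH <;> norm_num at hb
        exact key 19 1944 0 (by norm_num) (by rw [hH] <;> norm_num) (by norm_num) (by rw [hq8]; norm_num)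
          (by rw [hq8]; norm_num) (by norm_num) (fun h' => absurd h' (by norm_num)) (hsyl 19) (by decide +kernel)
    · have hc20 := three_transvections c p h9 H ht
      rw [← hcc] at hc20
      have hp3 : p = 3 := (Nat.prime_dvd_prime_iff_eq hp Nat.prime_three).mp
        (hp.dvd_of_dvd_pow (n := 2) (show p ∣ 3 ^ 2 by
          rw [show (3 : ℕ) ^ 2 = c.q by rw [h9]; norm_num]; exact p_dvd_q c p))
      rw [hp3] at hi hqf
      have hi7 : i < 7 := by
        have h1 : 3 ^ i ≤ 3 ^ 6 := by
          rw [← hi]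
          exact Nat.le_of_dvd (by norm_num) (hsd.trans (by rw [h9]; norm_num))
        have := (Nat.pow_le_pow_iff_right (by norm_num : 1 < 3)).mp h1
        omega
      have hmem : cc ∈ ({1, 2, 4, 5, 10, 20} : Finset ℕ) := by
        have : cc ≤ 20 := Nat.le_of_dvd (by norm_num) hc20
        have h0 : cc ∈ Nat.divisors 20 := Nat.mem_divisors.mpr ⟨hc20, by norm_num⟩
        rwa [show Nat.divisors 20 = ({1, 2, 4, 5, 10, 20} : Finset ℕ) by decide] at h0
      rw [h9, hi] at hb hH
      norm_num at hb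
      refine key 73 (10 * (3 ^ i * cc)) 0 (by norm_num) (by rw [hH]; ring) ?_ (by rw [h9]; norm_num)
        (by rw [h9]; norm_num) (by norm_num) (fun _ => by rw [h9]; norm_num) (hsyl 73)
        (decQ9 ⟨i, hi7⟩ cc hmem hb)
      intro hd
      have h73 : Nat.Prime 73 := by norm_num
      rcases h73.dvd_mul.mp hd with h | h
      · norm_num at h
      rcases h73.dvd_mul.mp h with h | h
      · have := Nat.le_of_dvd (by norm_num) (h73.dvd_of_dvd_pow h)
        omega
      · have := Nat.le_of_dvd (Nat.pos_of_dvd_of_pos hc20 (by norm_num)) h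
        have := Nat.le_of_dvd (by norm_num) hc20
        omega

/-- The least index of a proper subgroup of `PSU₃(q)`. -/
theorem main (q : ℕ) (hF : Fintype.card F = q ^ 2) (hq : 3 ≤ q) (h5 : q ≠ 5) :
    (∀ H : Subgroup (Cfsg.PSU 3 F q), H ≠ ⊤ → q ^ 3 + 1 ≤ H.index) ∧
      (∃ H : Subgroup (Cfsg.PSU 3 F q), H.index = q ^ 3 + 1) := by
  obtain ⟨-, σ, hσ⟩ := CfsgLib.UnitaryBasic.frob_exists hF
  obtain ⟨c, rfl⟩ : ∃ c : Conj F, c.q = q := ⟨⟨q, σ, hF, hσ⟩, rfl⟩
  obtain ⟨n, hp, hn⟩ := FiniteField.card F (ringChar F)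
  haveI := Fact.mk hp
  obtain ⟨E⟩ := exists_iso c (n := 3)
  let φ : SUs c 3 →* Cfsg.PSU 3 F c.q := (QuotientGroup.mk' _).comp E.toMonoidHom
  have hφ : Function.Surjective φ := (QuotientGroup.mk'_surjective _).comp E.surjective
  have hker : φ.ker = Subgroup.center (SUs c 3) := by
    ext x
    show QuotientGroup.mk' _ (E x) = 1 ↔ _
    rw [QuotientGroup.mk'_apply, QuotientGroup.eq_one_iff, Subgroup.mem_center_iff, Subgroup.mem_center_iff]
    exact ⟨fun h y => E.injective (by rw [map_mul, map_mul]; exact h _),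
      fun h y => by obtain ⟨y, rfl⟩ := E.surjective y; rw [← map_mul, ← map_mul, h]⟩
  refine ⟨fun H hH => ?_, ⟨(BG c).map φ, ?_⟩⟩
  · rw [← Subgroup.index_comap_of_surjective H hφ]
    refine index_lower c hq h5 _ (hker ▸ MonoidHom.ker_le_comap φ H) (fun e => hH ?_)
    rw [← Subgroup.map_comap_eq_self_of_surjective hφ H, e, ← MonoidHom.range_eq_map,
      MonoidHom.range_eq_top.mpr hφ]
  · rw [Subgroup.index_map_eq (BG c) hφ (hker.trans_le (center_le_BG c)), index_BG c (ringChar F)]

end CfsgLib.PSU3Min
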