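import Cfsg.Agent.Lib.PSU3Min.Line
import Cfsg.Agent.S0283

/-!
The shape of a proper subgroup of small index in `SU₃(q)`.
-/

set_option autoImplicit false
set_option linter.unusedSectionVars false

namespace CfsgLib.PSU3Min

open Matrix CfsgLib.PSUBorel
open CfsgLib.Dickson (up)

variable {F : Type*} [Field F] [Fintype F] (c : Conj F)

local notation "G" => SUs c 3

/-- The order of a cyclic group all of whose elements have exponent `n` divides `n`. -/
theorem card_dvd_of_pow_eq_one {A : Type*} [Group A] [Finite A] [IsCyclic A] {n : ℕ}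
    (h : ∀ a : A, a ^ n = 1) : Nat.card A ∣ n := by
  obtain ⟨g, hg⟩ := IsCyclic.exists_ofOrder_eq_natCard (α := A)
  exact hg ▸ orderOf_dvd_of_pow_eq_one (h g)

/-- A field has at most `n` roots of `Xⁿ = a`. -/
theorem card_pow_eq_le {n : ℕ} (hn : 0 < n) (a : F) : Nat.card {x : F // x ^ n = a} ≤ n := by
  classical
  rw [Nat.card_eq_fintype_card, Fintype.card_subtype]
  refine (Finset.card_le_card (t := (Polynomial.nthRoots n a).toFinset) fun x hx => ?_).trans
    ((Multiset.toFinset_card_le _).trans (Polynomial.card_nthRoots n a))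
  rw [Multiset.mem_toFinset, Polynomial.mem_nthRoots hn]
  simpa using hx

theorem conj_ZG {g z : G} (hg : g ∈ BG c) (hz : z ∈ ZG c) : g * z * g⁻¹ ∈ ZG c := by
  have hw := conj_UG c hg hz.1
  refine ⟨hw, ?_⟩
  have e := congrArg (fun A : G => A.1.1 0 1) (show g * z * g⁻¹ * g = g * z by group)
  simp only [mul01 c hg, mul01 c (UG_le c hz.1), UU_diag c hw, UU_diag c hz.1, hz.2, mul_zero, zero_add,
    one_mul, mul_one] at e
  exact (mul_eq_zero.mp (by linear_combination e : (g * z * g⁻¹).1.1 0 1 * g.1.1 1 1 = 0)).resolve_right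
    (by obtain ⟨h0, -, h1⟩ := diag_entries c hg; rw [h1]; exact div_ne_zero ((map_ne_zero c.σ).mpr h0) h0)

variable (p : ℕ) [Fact p.Prime] [CharP F p]

/-- The corner values of a subgroup. -/
def cornerImage (H : Subgroup G) : Subgroup Fˣ := (H.subgroupOf (BG c)).map (corner c)

theorem mem_cornerImage {H : Subgroup G} {x : Fˣ} :
    x ∈ cornerImage c H ↔ ∃ g, g ∈ H ∧ g ∈ BG c ∧ g.1.1 0 0 = x := by
  constructor
  · rintro ⟨⟨g, hg⟩, hgH, rfl⟩
    exact ⟨g, hgH, hg, rfl⟩
  · rintro ⟨g, hgH, hg, hx⟩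
    exact ⟨⟨g, hg⟩, hgH, Units.ext hx⟩

theorem card_inf_BG (H : Subgroup G) :
    Nat.card (H ⊓ BG c : Subgroup G) = Nat.card (H ⊓ UG c : Subgroup G) * Nat.card (cornerImage c H) := by
  let ψ : H.subgroupOf (BG c) →* Fˣ := (corner c).comp (Subgroup.subtype _)
  have hr : ψ.range = cornerImage c H := by
    rw [MonoidHom.range_comp, Subgroup.range_subtype]; rfl
  have h1 : Nat.card (H.subgroupOf (BG c)) = Nat.card (H ⊓ BG c : Subgroup G) :=
    Nat.card_congr
      { toFun := fun x => ⟨x.1.1, x.2, x.1.2⟩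
        invFun := fun x => ⟨⟨x.1, x.2.2⟩, x.2.1⟩
        left_inv := fun _ => rfl
        right_inv := fun _ => rfl }
  have h2 : Nat.card ψ.ker = Nat.card (H ⊓ UG c : Subgroup G) :=
    Nat.card_congr
      { toFun := fun x => ⟨x.1.1.1, x.1.2, mem_UG_of_corner c x.1.1.2 (congrArg Units.val x.2)⟩
        invFun := fun x => ⟨⟨⟨x.1, UG_le c x.2.2⟩, x.2.1⟩, MonoidHom.mem_ker.mpr (Units.ext (UU_diag c x.2.2 0))⟩
        left_inv := fun _ => rfl
        right_inv := fun _ => rfl }
  rw [← h1, ← ψ.ker.card_mul_index, Subgroup.index_ker, hr, h2]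

theorem cornerImage_dvd (H : Subgroup G) : Nat.card (cornerImage c H) ∣ c.q ^ 2 - 1 :=
  card_units c ▸ Subgroup.card_subgroup_dvd_card _

include p in
/-- A subgroup of index at most `q³` is transitive on the isotropic points. -/
theorem transitive (H : Subgroup G) (hidx : H.index ≤ c.q ^ 3) :
    ∀ g : G, ∃ h ∈ H, ∃ b ∈ BG c, g = h * b := by
  classical
  by_cases hall : ∀ g : G, ∃ u ∈ UG c, u ≠ 1 ∧ g * u * g⁻¹ ∈ H
  · refine transitive_of_unique_fix _ _ p fun g => ?_
    obtain ⟨u, hu, hu1, huH⟩ := hall g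
    obtain ⟨k, hk⟩ := exists_ppow c p hu
    refine ⟨_, huH, ⟨k, by rw [conj_pow, hk, mul_one, mul_inv_cancel]⟩, ?_, fun g' hg' => ?_⟩
    · rw [show g⁻¹ * (g * u * g⁻¹) * g = u by group]; exact UG_le c hu
    · refine ti c hu hu1 (mem_UG_of_ppow c p (k := k) ?_ ?_)
      · rwa [show (g⁻¹ * g')⁻¹ * u * (g⁻¹ * g') = g'⁻¹ * (g * u * g⁻¹) * g' by group]
      · rw [show (g⁻¹ * g')⁻¹ * u * (g⁻¹ * g') = MulAut.conj (g⁻¹ * g')⁻¹ u by simp [mul_assoc], ← map_pow, hk,
          map_one]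
  · push Not at hall
    obtain ⟨g, hg⟩ := hall
    refine transitive_of_small_index _ (UG c) H (UG_le c) (by rwa [card_UG c p]) (g := g) fun u hu huH => ?_
    by_contra h
    exact hg u hu h huH

include p in
/-- The basic inequality. -/
theorem basic (H : Subgroup G) (hidx : H.index ≤ c.q ^ 3) :
    Nat.card H = (c.q ^ 3 + 1) * (Nat.card (H ⊓ UG c : Subgroup G) * Nat.card (cornerImage c H)) ∧
      c.q ^ 2 - 1 ≤ Nat.card (H ⊓ UG c : Subgroup G) * Nat.card (cornerImage c H) := by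
  have h1 := card_of_transitive _ _ (transitive c p H hidx)
  rw [index_BG c p, card_inf_BG] at h1
  refine ⟨h1, ?_⟩
  have h2 := H.card_mul_index
  rw [card_G, h1] at h2
  set N := Nat.card (H ⊓ UG c : Subgroup G) * Nat.card (cornerImage c H)
  have h3 : c.q ^ 3 * ((c.q ^ 2 - 1) * (c.q ^ 3 + 1)) ≤ c.q ^ 3 * (N * (c.q ^ 3 + 1)) := by
    rw [← h2]
    calc (c.q ^ 3 + 1) * N * H.index ≤ (c.q ^ 3 + 1) * N * c.q ^ 3 := Nat.mul_le_mul_left _ hidx
      _ = c.q ^ 3 * (N * (c.q ^ 3 + 1)) := by ring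
  exact Nat.le_of_mul_le_mul_right (Nat.le_of_mul_le_mul_left h3 (pow_pos (by have := c.one_lt; omega) 3))
    (Nat.succ_pos _)

include p in
theorem card_inf_UG_dvd (H : Subgroup G) : Nat.card (H ⊓ UG c : Subgroup G) ∣ c.q ^ 3 :=
  card_UG c p ▸ Subgroup.card_dvd_of_le inf_le_right

include p in
/-- A proper subgroup containing the centre does not contain a transvection group. -/
theorem not_ZG_le (hq : 3 ≤ c.q) (H : Subgroup G) (hZ : Subgroup.center G ≤ H) (hne : H ≠ ⊤)
    (hidx : H.index ≤ c.q ^ 3) : ¬ ZG c ≤ H := by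
  intro hle
  obtain ⟨b, hb, hb0⟩ := c.exists_antifixed
  have hzmem : emb2 c hb hb0 (up 1) ∈ ZG c := emb2_up c hb hb0 1
  set z := emb2 c hb hb0 (up 1) with hz
  have hz1 : z ≠ 1 := fun e => hb (by
    have h2 := congrArg (fun A : G => A.1.1 0 2) e
    simpa [hz, emb2_up_corner, coe_one] using h2)
  have hconj : ∀ g : G, g * z * g⁻¹ ∈ H := by
    intro g
    obtain ⟨h, hh, b', hb', rfl⟩ := transitive c p H hidx g
    rw [show h * b' * z * (h * b')⁻¹ = h * (b' * z * b'⁻¹) * h⁻¹ by group]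
    exact H.mul_mem (H.mul_mem hh (hle (conj_ZG c hb' hzmem))) (H.inv_mem hh)
  have hzc : z ∉ Subgroup.center G := by
    intro hc
    obtain ⟨k, hk⟩ := exists_ppow c p hzmem.1
    have h1 : z ^ Nat.card (Subgroup.center G) = 1 :=
      congrArg Subtype.val (pow_card_eq_one' (x := (⟨z, hc⟩ : Subgroup.center G)))
    have h2 := pow_gcd_eq_one.mpr ⟨hk, h1⟩
    have hcop : Nat.Coprime (p ^ k) (Nat.card (Subgroup.center G)) :=
      Nat.Coprime.pow_left k ((Fact.out : p.Prime).coprime_iff_not_dvd.mpr fun h =>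
        not_dvd_add_one p (p_dvd_q c p) (h.trans (card_center c).2))
    rw [hcop.gcd_eq_one, pow_one] at h2
    exact hz1 h2
  obtain ⟨E⟩ := exists_iso c (n := 3)
  haveI := Cfsg.Agent.S0283.result c.card 3 le_rfl (by omega)
  let φ : G →* Cfsg.PSU 3 F c.q := (QuotientGroup.mk' _).comp E.toMonoidHom
  have hφ : Function.Surjective φ := (QuotientGroup.mk'_surjective _).comp E.surjective
  have hker : ∀ x, φ x = 1 ↔ x ∈ Subgroup.center G := by
    intro x
    show QuotientGroup.mk' _ (E x) = 1 ↔ _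
    rw [QuotientGroup.mk'_apply, QuotientGroup.eq_one_iff, Subgroup.mem_center_iff, Subgroup.mem_center_iff]
    exact ⟨fun h y => E.injective (by rw [map_mul, map_mul]; exact h _),
      fun h y => by obtain ⟨y, rfl⟩ := E.surjective y; rw [← map_mul, ← map_mul, h]⟩
  let N : Subgroup G := Subgroup.normalClosure {z}
  have hNH : N ≤ H := by
    refine (Subgroup.closure_le H).mpr fun x hx => ?_
    obtain ⟨a, ha, hax⟩ := Group.mem_conjugatesOfSet_iff.mp hx
    obtain rfl := Set.mem_singleton_iff.mp ha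
    obtain ⟨g, rfl⟩ := isConj_iff.mp hax
    exact hconj g
  have hn : (N.map φ).Normal := Subgroup.Normal.map inferInstance φ hφ
  rcases hn.eq_bot_or_eq_top with h | h
  · exact hzc ((hker z).mp (Subgroup.mem_bot.mp (h ▸ ⟨z, Subgroup.subset_normalClosure rfl, rfl⟩)))
  · refine hne (eq_top_iff.mpr fun x _ => ?_)
    obtain ⟨y, hy, hyx⟩ : φ x ∈ N.map φ := h ▸ Subgroup.mem_top _
    have : y⁻¹ * x ∈ Subgroup.center G := (hker _).mp (by rw [map_mul, map_inv, hyx, inv_mul_cancel])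
    simpa using H.mul_mem (hNH hy) (hZ this)

include p in
/-- If `H` contains transvections then it is one of two exceptions. -/
theorem transvection_cases (hq : 3 ≤ c.q) (H : Subgroup G) (hZ : Subgroup.center G ≤ H) (hne : H ≠ ⊤)
    (hidx : H.index ≤ c.q ^ 3) (hT : H ⊓ ZG c ≠ ⊥) :
    (p = 2 ∧ Nat.card (H ⊓ ZG c : Subgroup G) = 2) ∨ (c.q = 9 ∧ Nat.card (H ⊓ ZG c : Subgroup G) = 3) := by
  classical
  obtain ⟨b, hb, hb0⟩ := c.exists_antifixed
  haveI : Fintype (Fix c) := Fintype.ofFinite _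
  haveI : CharP (Fix c) p := (Fix c).subtype.charP (Subtype.val_injective) p
  let D : Subgroup (Matrix.SpecialLinearGroup (Fin 2) (Fix c)) := H.comap (emb2 c hb hb0)
  obtain ⟨z', hz'⟩ := Subgroup.ne_bot_iff_exists_ne_one.mp hT
  set z := z'.1
  have hz : z ∈ H ⊓ ZG c := z'.2
  have hz1 : z ≠ 1 := fun e => hz' (Subtype.ext e)
  have hyp : ∀ g, ∃ x : Fix c, x ≠ 0 ∧ g * up x * g⁻¹ ∈ D := by
    intro g
    obtain ⟨h, hh, b', hb', he⟩ := transitive c p H hidx (emb2 c hb hb0 g)
    obtain ⟨x, hx⟩ := emb2_surj c hb hb0 (conj_ZG c (inv_mem hb') hz.2)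
    refine ⟨x, fun hx0 => hz1 ?_, ?_⟩
    · rw [hx0, Dickson.up_zero, map_one, inv_inv] at hx
      calc z = b' * (b'⁻¹ * z * b') * b'⁻¹ := by group
        _ = 1 := by rw [← hx, mul_one, mul_inv_cancel]
    · show emb2 c hb hb0 _ ∈ H
      rw [map_mul, map_mul, map_inv, hx, he, show h * b' * (b'⁻¹ * z * b'⁻¹⁻¹) * (h * b')⁻¹ = h * z * h⁻¹ by group]
      exact H.mul_mem (H.mul_mem hh hz.1) (H.inv_mem hh)
  have hcard : Nat.card {x : Fix c // up x ∈ D} = Nat.card (H ⊓ ZG c : Subgroup G) := by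
    refine Nat.card_eq_of_bijective (fun x => ⟨emb2 c hb hb0 (up x.1), x.2, emb2_up c hb hb0 x.1⟩) ⟨fun x y e => ?_, fun y => ?_⟩
    · have := congrArg (fun A : (H ⊓ ZG c : Subgroup G) => A.1.1.1 0 2) e
      simp only [emb2_up_corner] at this
      exact Subtype.ext (Subtype.ext (mul_right_cancel₀ hb this))
    · obtain ⟨x, hx⟩ := emb2_surj c hb hb0 y.2.2
      exact ⟨⟨x, show emb2 c hb hb0 (up x) ∈ H from hx ▸ y.2.1⟩, Subtype.ext hx⟩
  rcases sl2_full p D hyp with h | ⟨h1, h2⟩ | ⟨h1, h2⟩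
  · refine absurd (fun z hz => ?_) (not_ZG_le c p hq H hZ hne hidx)
    obtain ⟨x, rfl⟩ := emb2_surj c hb hb0 hz
    exact h x
  · exact Or.inl ⟨h1, hcard ▸ h2⟩
  · refine Or.inr ⟨?_, hcard ▸ h2⟩
    rw [← card_Fix c hb hb0, Nat.card_eq_fintype_card, h1]

include p in
/-- Two transvections: `q` is small. -/
theorem two_transvections (h2 : p = 2) (H : Subgroup G) (hidx : H.index ≤ c.q ^ 3)
    (hT : Nat.card (H ⊓ ZG c : Subgroup G) = 2) :
    Nat.card (cornerImage c H) ∣ c.q + 1 ∧ Nat.card (H ⊓ UG c : Subgroup G) ≤ 8 := by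
  classical
  subst h2
  obtain ⟨z, hz1, hzu⟩ := (Nat.card_eq_two_iff' (1 : (H ⊓ ZG c : Subgroup G))).mp hT
  set τ := z.1.1.1 0 2
  have hτ : τ ≠ 0 := fun e => hz1 (Subtype.ext (SUs_ext c (Matrix.ext fun i j => by
    obtain ⟨h12, -⟩ := UG_rel c z.2.2.1
    rw [z.2.2.2, map_zero, neg_zero] at h12
    obtain ⟨a1, a2, a3⟩ := (mem_BG_iff c).mp (UG_le c z.2.2.1)
    show z.1.1.1 i j = (1 : G).1.1 i j
    rw [coe_one]
    fin_cases i <;> fin_cases j <;> simp [UU_diag c z.2.2.1, a1, a2, a3, h12, z.2.2.2, show z.1.1.1 0 2 = 0 from e])))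
  refine ⟨?_, ?_⟩
  · refine card_dvd_of_pow_eq_one fun a => ?_
    obtain ⟨g, hgH, hg, hga⟩ := (mem_cornerImage c).mp a.2
    have hfix : g * z.1 * g⁻¹ = z.1 := by
      refine congrArg Subtype.val (hzu ⟨g * z.1 * g⁻¹, H.mul_mem (H.mul_mem hgH z.2.1) (H.inv_mem hgH),
        conj_ZG c hg z.2.2⟩ fun e => hz1 (Subtype.ext ?_))
      show z.1 = 1
      calc z.1 = g⁻¹ * (g * z.1 * g⁻¹) * g := by group
        _ = 1 := by rw [show g * z.1 * g⁻¹ = 1 from congrArg Subtype.val e, mul_one, inv_mul_cancel]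
    have e := congrArg (fun A : G => A.1.1 0 2) (mul_inv_eq_iff_eq_mul.mp hfix)
    obtain ⟨h12, -⟩ := UG_rel c z.2.2.1
    obtain ⟨h0, h22, -⟩ := diag_entries c hg
    simp only [mul02, UU_diag c z.2.2.1, z.2.2.2, h12, map_zero, neg_zero, mul_zero, add_zero, zero_mul,
      one_mul, mul_one, h22] at e
    have hs : c.σ (g.1.1 0 0) ≠ 0 := (map_ne_zero c.σ).mpr h0
    have h1 : g.1.1 0 0 * τ = τ * (c.σ (g.1.1 0 0))⁻¹ := by linear_combination e
    have h2 : g.1.1 0 0 * c.σ (g.1.1 0 0) = 1 := by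
      apply mul_right_cancel₀ hτ
      field_simp at h1
      first | linear_combination h1 | linear_combination τ * h1
    apply Subtype.ext
    apply Units.ext
    rw [SubgroupClass.coe_pow, Units.val_pow_eq_pow_val, ← hga, OneMemClass.coe_one, Units.val_one, pow_succ',
      ← c.hσ]
    exact h2
  · let π : (H ⊓ UG c : Subgroup G) →* Multiplicative F :=
      { toFun := fun u => Multiplicative.ofAdd (u.1.1.1 0 1)
        map_one' := by simp [coe_one]
        map_mul' := fun u v => congrArg Multiplicative.ofAdd (by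
          show (u.1 * v.1).1.1 0 1 = _
          rw [mul01 c (UG_le c v.2.2), UU_diag c u.2.2, UU_diag c v.2.2]
          show _ = u.1.1.1 0 1 + v.1.1.1 0 1
          ring) }
    have hk : Nat.card π.ker = 2 := hT ▸ Nat.card_congr
      { toFun := fun u => ⟨u.1.1, u.1.2.1, u.1.2.2, congrArg Multiplicative.toAdd u.2⟩
        invFun := fun u => ⟨⟨u.1, u.2.1, u.2.2.1⟩, MonoidHom.mem_ker.mpr (congrArg Multiplicative.ofAdd u.2.2.2)⟩
        left_inv := fun _ => rfl
        right_inv := fun _ => rfl }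
    -- squares: every nonzero value has norm `τ`
    have hnorm : ∀ u : (H ⊓ UG c : Subgroup G), u.1.1.1 0 1 ≠ 0 →
        u.1.1.1 0 1 * c.σ (u.1.1.1 0 1) = τ := by
      intro u ha
      have h2F : (2 : F) = 0 := CharTwo.two_eq_zero
      obtain ⟨h12, -⟩ := UG_rel c u.2.2
      have hd := UU_diag c u.2.2
      have hsq : u.1 * u.1 ∈ (H ⊓ ZG c : Subgroup G) := ⟨H.mul_mem u.2.1 u.2.1, mul_mem u.2.2 u.2.2, by
        rw [mul01 c (UG_le c u.2.2), hd, hd]
        linear_combination (u.1.1.1 0 1) * h2F⟩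
      have hne : (⟨_, hsq⟩ : (H ⊓ ZG c : Subgroup G)) ≠ 1 := fun e => by
        have e' : (u.1 * u.1).1.1 0 2 = (1 : G).1.1 0 2 :=
          congrArg (fun A : (H ⊓ ZG c : Subgroup G) => A.1.1.1 0 2) e
        rw [mul02, hd, hd, h12, coe_one, Matrix.one_apply_ne (by decide)] at e'
        refine (mul_ne_zero ha ((map_ne_zero c.σ).mpr ha)) ?_
        linear_combination -e' + u.1.1.1 0 2 * h2F
      have e : (u.1 * u.1).1.1 0 2 = τ :=
        congrArg (fun A : (H ⊓ ZG c : Subgroup G) => A.1.1.1 0 2) (hzu _ hne)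
      rw [mul02, hd, hd, h12] at e
      linear_combination e + (u.1.1.1 0 1 * c.σ (u.1.1.1 0 1) - u.1.1.1 0 2) * h2F
    have hW : Nat.card π.range ≤ 4 := by
      by_cases hex : ∃ u : (H ⊓ UG c : Subgroup G), u.1.1.1 0 1 ≠ 0
      · obtain ⟨u, hu⟩ := hex
        set a := u.1.1.1 0 1
        have hroot : ∀ w : π.range, ((Multiplicative.toAdd w.1) / a) ^ 4 = (Multiplicative.toAdd w.1) / a := by
          rintro ⟨_, v, rfl⟩
          show (v.1.1.1 0 1 / a) ^ 4 = v.1.1.1 0 1 / a
          set r := v.1.1.1 0 1 / a with hr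
          have hva : v.1.1.1 0 1 = r * a := by rw [hr, div_mul_cancel₀ _ hu]
          by_cases h0 : r = 0
          · simp [h0]
          by_cases h1 : r = 1
          · simp [h1]
          have hτv := hnorm v (by rw [hva]; exact mul_ne_zero h0 hu)
          have hsum : (v * u).1.1.1 0 1 = (r + 1) * a := by
            show (v.1 * u.1).1.1 0 1 = _
            rw [mul01 c (UG_le c u.2.2), UU_diag c v.2.2, UU_diag c u.2.2, hva]; ring
          have hr1 : r + 1 ≠ 0 := fun e => h1 (by rw [eq_neg_of_add_eq_zero_left e, CharTwo.neg_eq])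
          have hτw := hnorm (v * u) (by rw [hsum]; exact mul_ne_zero hr1 hu)
          have hτu := hnorm u hu
          rw [hva, map_mul] at hτv
          rw [hsum, map_mul, map_add, map_one] at hτw
          have hN : a * c.σ a ≠ 0 := mul_ne_zero hu ((map_ne_zero c.σ).mpr hu)
          have e1 : r * c.σ r = 1 := mul_right_cancel₀ hN (by linear_combination hτv - hτu)
          have e2 : (r + 1) * (c.σ r + 1) = 1 := mul_right_cancel₀ hN (by linear_combination hτw - hτu)
          have e3 : r ^ 2 + r + 1 = 0 := by linear_combination r * e2 - (r + 1) * e1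
          linear_combination r * (r - 1) * e3
        haveI : Fintype F := inferInstance
        refine (Nat.card_le_card_of_injective (fun w : π.range =>
          (⟨(Multiplicative.toAdd w.1) / a, hroot w⟩ : {x : F // x ^ 4 = x})) fun w w' e => ?_).trans ?_
        · have := congrArg Subtype.val e
          simp only at this
          exact Subtype.ext (Multiplicative.toAdd.injective ((div_left_inj' hu).mp this))
        · rw [Nat.card_eq_fintype_card, Fintype.card_subtype]
          have hp : (Polynomial.X ^ 4 - Polynomial.X : Polynomial F) ≠ 0 :=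
            FiniteField.X_pow_card_sub_X_ne_zero F (by norm_num)
          refine (Finset.card_le_card (t := (Polynomial.X ^ 4 - Polynomial.X : Polynomial F).roots.toFinset)
            fun x hx => ?_).trans ((Multiset.toFinset_card_le _).trans ((Polynomial.card_roots' _).trans
              (FiniteField.X_pow_card_sub_X_natDegree_eq F (by norm_num)).le))
          rw [Multiset.mem_toFinset, Polynomial.mem_roots hp, Polynomial.IsRoot]
          simpa [sub_eq_zero] using hx
      · push Not at hex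
        haveI : Subsingleton π.range := ⟨by
          rintro ⟨_, v, rfl⟩ ⟨_, w, rfl⟩
          exact Subtype.ext (congrArg Multiplicative.ofAdd ((hex v).trans (hex w).symm))⟩
        rw [Nat.card_of_subsingleton (1 : π.range)]
        norm_num
    have h := π.ker.card_mul_index
    rw [Subgroup.index_ker, hk] at h
    omega

include p in
/-- Three transvections at `q = 9`. -/
theorem three_transvections (hq : c.q = 9) (H : Subgroup G)
    (hT : Nat.card (H ⊓ ZG c : Subgroup G) = 3) : Nat.card (cornerImage c H) ∣ 20 := by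
  classical
  haveI : Nontrivial (H ⊓ ZG c : Subgroup G) := Finite.one_lt_card_iff_nontrivial.mp (by omega)
  obtain ⟨z, hz1⟩ := exists_ne (1 : (H ⊓ ZG c : Subgroup G))
  have hτ : z.1.1.1 0 2 ≠ 0 := fun e => hz1 (Subtype.ext (SUs_ext c (Matrix.ext fun i j => by
    obtain ⟨h12, -⟩ := UG_rel c z.2.2.1
    rw [z.2.2.2, map_zero, neg_zero] at h12
    obtain ⟨a1, a2, a3⟩ := (mem_BG_iff c).mp (UG_le c z.2.2.1)
    show z.1.1.1 i j = (1 : G).1.1 i j
    rw [coe_one]
    fin_cases i <;> fin_cases j <;> simp [UU_diag c z.2.2.1, a1, a2, a3, h12, z.2.2.2, e])))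
  refine card_dvd_of_pow_eq_one fun a => ?_
  obtain ⟨g, hgH, hg, hga⟩ := (mem_cornerImage c).mp a.2
  let w : (H ⊓ ZG c : Subgroup G) := ⟨g * z.1 * g⁻¹, H.mul_mem (H.mul_mem hgH z.2.1) (H.inv_mem hgH),
    conj_ZG c hg z.2.2⟩
  haveI : Fact (Nat.Prime 3) := ⟨Nat.prime_three⟩
  obtain ⟨k, hk⟩ := Submonoid.mem_powers_iff w z |>.mp
    ((mem_powers_iff_mem_zpowers (x := z) (y := w)).mpr (mem_zpowers_of_prime_card hT hz1))
  obtain ⟨h12, -⟩ := UG_rel c z.2.2.1
  rw [z.2.2.2, map_zero, neg_zero] at h12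
  have hpow : ∀ k : ℕ, (z.1 ^ k).1.1 0 2 = (k : F) * z.1.1.1 0 2 := by
    intro k
    induction k with
    | zero => simp [coe_one]
    | succ k ih =>
      rw [pow_succ, mul02, ih, h12, UU_diag c z.2.2.1, UU_diag c (pow_mem z.2.2.1 k)]
      push_cast; ring
  have hk' : g * z.1 = z.1 ^ k * g := by
    have hc : z.1 ^ k = g * z.1 * g⁻¹ := congrArg Subtype.val hk
    rw [hc, inv_mul_cancel_right]
  have e := congrArg (fun A : G => A.1.1 0 2) hk'
  obtain ⟨h0, h22, -⟩ := diag_entries c hg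
  simp only [mul02, h12, UU_diag c z.2.2.1, z.2.2.2, hpow k, UU_diag c (pow_mem z.2.2.1 k),
    ((ZG c).pow_mem z.2.2 k).2, mul_zero, zero_mul, add_zero, one_mul, mul_one, h22] at e
  have hs : c.σ (g.1.1 0 0) ≠ 0 := (map_ne_zero c.σ).mpr h0
  have h2 : g.1.1 0 0 * c.σ (g.1.1 0 0) = (k : F) := by
    apply mul_right_cancel₀ hτ
    field_simp at e
    linear_combination e
  -- `k` is prime to three
  obtain ⟨e0, -, he⟩ := exists_pow_q c p
  have hp3 : p = 3 := (Nat.prime_dvd_prime_iff_eq (Fact.out : p.Prime) Nat.prime_three).mp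
    ((Fact.out : p.Prime).dvd_of_dvd_pow (n := 2) (show p ∣ 3 ^ 2 by
      rw [show (3 : ℕ) ^ 2 = c.q by rw [hq]; norm_num]; exact p_dvd_q c p))
  subst hp3
  have hk1 : (k : F) ^ 2 = 1 := by
    have h0' : (k : F) ≠ 0 := fun h => mul_ne_zero h0 hs (h2.trans h)
    have hk0 : ((k : ZMod 3)) ≠ 0 := fun h => h0' (by
      rw [CharP.cast_eq_zero_iff F 3]; exact (ZMod.natCast_eq_zero_iff _ _).mp h)
    have := ZMod.pow_card_sub_one_eq_one hk0
    have h := congrArg (ZMod.castHom (dvd_refl 3) F) this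
    simpa using h
  apply Subtype.ext
  apply Units.ext
  rw [SubgroupClass.coe_pow, Units.val_pow_eq_pow_val, ← hga, OneMemClass.coe_one, Units.val_one]
  calc g.1.1 0 0 ^ 20 = (g.1.1 0 0 * c.σ (g.1.1 0 0)) ^ 2 := by rw [c.hσ, hq]; ring
    _ = 1 := by rw [h2, hk1]

end CfsgLib.PSU3Min
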