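import Cfsg.Agent.Lib.PSU3Min.Structure
import Cfsg.Agent.S2360

/-!
Subgroups without transvections: the centraliser of a homology.
-/

set_option autoImplicit false
set_option linter.unusedSectionVars false

namespace CfsgLib.PSU3Min

open Matrix CfsgLib.PSUBorel
open CfsgLib.Dickson (up)

variable {F : Type*} [Field F] [Fintype F] (c : Conj F)

local notation "G" => SUs c 3

theorem pow_corner {g : G} (hg : g ∈ BG c) (n : ℕ) : (g ^ n).1.1 0 0 = g.1.1 0 0 ^ n := diag_pow c hg 0 n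

theorem det_conj_sub (h t : G) (a : F) :
    ((h * t * h⁻¹).1.1 - a • 1).det = (t.1.1 - a • 1).det := by
  have hi : h.1.1 * (h⁻¹).1.1 = 1 := by rw [← coe_mul, mul_inv_cancel, coe_one]
  have e : (h * t * h⁻¹).1.1 - a • 1 = h.1.1 * (t.1.1 - a • 1) * (h⁻¹).1.1 := by
    rw [coe_mul, coe_mul, Matrix.mul_sub, Matrix.sub_mul, Matrix.mul_smul, Matrix.smul_mul, Matrix.mul_one, hi]
  rw [e, Matrix.det_mul, Matrix.det_mul, mul_right_comm, ← Matrix.det_mul, hi, Matrix.det_one, one_mul]

theorem det_triangular {g : G} (hg : g ∈ BG c) (a : F) :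
    (g.1.1 - a • 1).det = (g.1.1 0 0 - a) * (g.1.1 1 1 - a) * (g.1.1 2 2 - a) := by
  obtain ⟨h10, h20, h21⟩ := (mem_BG_iff c).mp hg
  rw [Matrix.det_fin_three]
  simp [h10, h20, h21]

/-- The corner of a conjugate of a homology in the Borel subgroup. -/
theorem corner_of_conj {t h : G} (ht : t ∈ BG c) (hw : h * t * h⁻¹ ∈ BG c)
    (hN : t.1.1 0 0 * c.σ (t.1.1 0 0) = 1) (h3 : t.1.1 0 0 ^ 3 ≠ 1) :
    (h * t * h⁻¹).1.1 0 0 = t.1.1 0 0 := by
  set w := h * t * h⁻¹
  set l := t.1.1 0 0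
  set x := w.1.1 0 0
  obtain ⟨hl, t22, t11⟩ := diag_entries c ht
  obtain ⟨hx, w22, w11⟩ := diag_entries c hw
  have hsl : c.σ l = l⁻¹ := eq_inv_of_mul_eq_one_right hN
  have ht22 : t.1.1 2 2 = l := by rw [t22, hsl, inv_inv]
  have ht11 : t.1.1 1 1 = l⁻¹ ^ 2 := by rw [t11, hsl, pow_two, div_eq_mul_inv]
  have hsx : c.σ x ≠ 0 := (map_ne_zero c.σ).mpr hx
  have key : ∀ a : F, (t.1.1 - a • 1).det = 0 →
      x = a ∨ c.σ x / x = a ∨ (c.σ x)⁻¹ = a := by
    intro a ha
    rw [← det_conj_sub c h t a, det_triangular c hw, mul_eq_zero, mul_eq_zero, sub_eq_zero, sub_eq_zero,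
      sub_eq_zero, w11, w22] at ha
    tauto
  have hz : ∀ a : F, a * c.σ a = 1 → (c.σ x)⁻¹ = a → x = a := fun a ha e => by
    have := congrArg c.σ e
    rw [map_inv₀, c.invol, eq_inv_of_mul_eq_one_right ha] at this
    exact inv_injective this
  rcases key l (by rw [det_triangular c ht]; ring) with e | e | e
  · exact e
  · have hm : l⁻¹ ^ 2 * c.σ (l⁻¹ ^ 2) = 1 := by
      rw [map_pow, map_inv₀, hsl, inv_inv, ← mul_pow, inv_mul_cancel₀ hl, one_pow]
    rcases key (l⁻¹ ^ 2) (by rw [det_triangular c ht, ht11]; ring) with e' | e' | e'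
    · exfalso
      have hsx' : c.σ x = l ^ 2 := by rw [e', map_pow, map_inv₀, hsl, inv_inv]
      rw [hsx', e'] at e
      field_simp at e
      exact h3 (mul_left_cancel₀ hl (by linear_combination e))
    · exfalso
      apply h3
      rw [e] at e'
      have h := congrArg (fun z => z * l ^ 2) e'
      have hinv : l⁻¹ ^ 2 * l ^ 2 = 1 := by rw [← mul_pow, inv_mul_cancel₀ hl, one_pow]
      linear_combination h + hinv
    · exfalso
      have hxv := hz _ hm e'
      have hsx' : c.σ x = l ^ 2 := by rw [hxv, map_pow, map_inv₀, hsl, inv_inv]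
      rw [hsx', hxv] at e
      field_simp at e
      exact h3 (mul_left_cancel₀ hl (by linear_combination e))
  · exact hz l hN e

/-- A homology in the Borel subgroup is diagonalised by the radical. -/
theorem exists_diag (p : ℕ) [Fact p.Prime] [CharP F p] {t : G} (ht : t ∈ BG c)
    (hN : t.1.1 0 0 * c.σ (t.1.1 0 0) = 1) (h3 : t.1.1 0 0 ^ 3 ≠ 1) {n : ℕ} (hn : t ^ n = 1) (hpn : ¬ p ∣ n) :
    ∃ u ∈ UG c, ∀ i j : Fin 3, i ≠ j → (u * t * u⁻¹).1.1 i j = 0 := by
  obtain ⟨hl, t22, t11⟩ := diag_entries c ht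
  set l := t.1.1 0 0
  have hsl : c.σ l = l⁻¹ := eq_inv_of_mul_eq_one_right hN
  have hd : l - t.1.1 1 1 ≠ 0 := fun e => h3 (by
    rw [t11, hsl] at e
    field_simp at e
    linear_combination e)
  obtain ⟨e1, he1⟩ := c.exists_trace_one
  set a := t.1.1 0 1 / (l - t.1.1 1 1) with ha
  have hb : -e1 * (a * c.σ a) + c.σ (-e1 * (a * c.σ a)) + a * c.σ a = 0 := by
    rw [map_mul, map_neg, map_mul, c.invol]
    linear_combination (-(a * c.σ a)) * he1
  set u := r3 c a (-e1 * (a * c.σ a)) hb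
  have hu : u ∈ UG c := by
    refine mem_UU_of_diag c ((mem_BG_iff c).mpr ⟨?_, ?_, ?_⟩) fun i => ?_
    · simp [u, r3, m3]
    · simp [u, r3, m3]
    · simp [u, r3, m3]
    · fin_cases i <;> simp [u, r3, m3]
  refine ⟨u, hu, ?_⟩
  set w := u * t * u⁻¹ with hw
  have hwB : w ∈ BG c := mul_mem (mul_mem (UG_le c hu) ht) (inv_mem (UG_le c hu))
  have hwu : w * u = u * t := by rw [hw, inv_mul_cancel_right]
  have w00 : w.1.1 0 0 = l := by
    have := congrArg (fun A : G => A.1.1 0 0) hwu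
    simp only [mul00 c (UG_le c hu), mul00 c ht, UU_diag c hu, mul_one, one_mul] at this
    exact this
  obtain ⟨-, w22, w11⟩ := diag_entries c hwB
  rw [w00] at w22 w11
  rw [hsl, inv_inv] at w22
  have hw11 : w.1.1 1 1 = t.1.1 1 1 := by rw [w11, t11]
  have w01 : w.1.1 0 1 = 0 := by
    have e := congrArg (fun A : G => A.1.1 0 1) hwu
    simp only [mul01 c (UG_le c hu), mul01 c ht, UU_diag c hu, w00, one_mul, mul_one] at e
    have hua : u.1.1 0 1 = a := by simp [u, r3, m3]
    rw [hua] at e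
    have : a * (l - t.1.1 1 1) = t.1.1 0 1 := by rw [ha, div_mul_cancel₀ _ hd]
    linear_combination e - this
  obtain ⟨h10, h20, h21⟩ := (mem_BG_iff c).mp hwB
  have w12 : w.1.1 1 2 = 0 := by
    have e := cond_apply c w.2 0 1
    simp [Fin.sum_univ_three, Fin.rev, w01, h10] at e
    exact e.resolve_left (w00 ▸ hl)
  have hpow : ∀ k : ℕ, (w ^ k).1.1 0 2 = (k : F) * l ^ (k - 1) * w.1.1 0 2 := by
    intro k
    induction k with
    | zero => simp [coe_one]
    | succ k ih =>
      rw [pow_succ, mul02, ih, w12, mul_zero, add_zero, pow_corner c hwB, w00, w22]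
      rcases Nat.eq_zero_or_pos k with rfl | hk
      · simp
      · obtain ⟨m, rfl⟩ : ∃ m, k = m + 1 := ⟨k - 1, by omega⟩
        simp only [Nat.add_sub_cancel]
        push_cast; ring
  have w02 : w.1.1 0 2 = 0 := by
    have hwn : w ^ n = 1 := by rw [hw, conj_pow, hn, mul_one, mul_inv_cancel]
    have e := hpow n
    rw [hwn, coe_one, Matrix.one_apply_ne (by decide)] at e
    rcases mul_eq_zero.mp e.symm with e | e
    · rcases mul_eq_zero.mp e with e | e
      · exact absurd ((CharP.cast_eq_zero_iff F p n).mp e) hpn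
      · exact absurd e (pow_ne_zero _ hl)
    · exact e
  intro i j hij
  fin_cases i <;> fin_cases j <;> first | exact absurd rfl hij | assumption

variable (p : ℕ) [Fact p.Prime] [CharP F p]

include p in
theorem no_transvection_UG (H : Subgroup G) (hT : H ⊓ ZG c = ⊥) {u : G} (hu : u ∈ H ⊓ UG c)
    (h : u.1.1 0 1 = 0) : u = 1 := by
  have : u ∈ H ⊓ ZG c := ⟨hu.1, hu.2, h⟩
  rwa [hT, Subgroup.mem_bot] at this

include p in
/-- Without transvections the unipotent part is small and, unless trivial, restricts the corners. -/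
theorem no_transvection_shape (H : Subgroup G) (hT : H ⊓ ZG c = ⊥) :
    Nat.card (H ⊓ UG c : Subgroup G) ≤ c.q ∧ (Nat.card (H ⊓ UG c : Subgroup G) ≠ 1 →
      p ≠ 2 ∧ Nat.card (cornerImage c H) ∣ 3 * (c.q - 1)) := by
  classical
  obtain ⟨b0, hb, hb0⟩ := c.exists_antifixed
  have hq := c.one_lt
  have inj : ∀ u v : G, u ∈ H ⊓ UG c → v ∈ H ⊓ UG c → u.1.1 0 1 = v.1.1 0 1 → u = v := by
    intro u v hu hv h
    have h1 : u⁻¹ * v ∈ H ⊓ UG c := mul_mem (inv_mem hu) hv
    refine inv_mul_eq_one.mp (no_transvection_UG c p H hT h1 ?_)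
    have e := congrArg (fun A : G => A.1.1 0 1) (mul_inv_cancel_left u v)
    simp only [mul01 c (UG_le c h1.2), UU_diag c hu.2, UU_diag c h1.2] at e
    linear_combination e - h
  -- elements of `H ∩ U` commute
  have hcomm : ∀ u v : G, u ∈ H ⊓ UG c → v ∈ H ⊓ UG c →
      u.1.1 0 1 * c.σ (v.1.1 0 1) = v.1.1 0 1 * c.σ (u.1.1 0 1) := by
    intro u v hu hv
    have h := inj (u * v) (v * u) (mul_mem hu hv) (mul_mem hv hu) (by
      rw [mul01 c (UG_le c hv.2), mul01 c (UG_le c hu.2), UU_diag c hu.2, UU_diag c hv.2, UU_diag c hu.2,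
        UU_diag c hv.2]; ring)
    have e := congrArg (fun A : G => A.1.1 0 2) h
    simp only [mul02, UU_diag c hu.2, UU_diag c hv.2, (UG_rel c hu.2).1, (UG_rel c hv.2).1] at e
    linear_combination -e
  by_cases htriv : Nat.card (H ⊓ UG c : Subgroup G) = 1
  · exact ⟨by omega, fun h => absurd htriv h⟩
  obtain ⟨v, hv, hv1⟩ : ∃ v, v ∈ H ⊓ UG c ∧ v ≠ 1 := by
    by_contra hcon
    push Not at hcon
    exact htriv (Subgroup.card_eq_one.mpr ((Subgroup.eq_bot_iff_forall _).mpr hcon))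
  set a := v.1.1 0 1 with hav
  have ha : a ≠ 0 := fun e => hv1 (no_transvection_UG c p H hT hv e)
  have hsa : c.σ a ≠ 0 := (map_ne_zero c.σ).mpr ha
  have hfix : ∀ u : G, u ∈ H ⊓ UG c → u.1.1 0 1 / a ∈ Fix c := fun u hu => by
    rw [mem_Fix, map_div₀, div_eq_div_iff hsa ha]
    linear_combination -(hcomm u v hu hv)
  refine ⟨?_, fun _ => ⟨?_, ?_⟩⟩
  · rw [← card_Fix c hb hb0]
    refine Nat.card_le_card_of_injective (fun u : (H ⊓ UG c : Subgroup G) =>
      (⟨u.1.1.1 0 1 / a, hfix u.1 u.2⟩ : Fix c)) fun u w e => ?_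
    exact Subtype.ext (inj _ _ u.2 w.2 ((div_left_inj' ha).mp (congrArg Subtype.val e)))
  · rintro rfl
    have h2F : (2 : F) = 0 := CharTwo.two_eq_zero
    have hvv := mul_mem hv hv
    have e : v * v = 1 := no_transvection_UG c 2 H hT hvv (by
      rw [mul01 c (UG_le c hv.2), UU_diag c hv.2, UU_diag c hv.2]
      linear_combination a * h2F)
    have e' := congrArg (fun A : G => A.1.1 0 2) e
    simp only [mul02, UU_diag c hv.2, (UG_rel c hv.2).1, coe_one] at e'
    rw [Matrix.one_apply_ne (by decide)] at e'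
    exact mul_ne_zero ha hsa (by linear_combination -e' + v.1.1 0 2 * h2F)
  · refine card_dvd_of_pow_eq_one fun x => ?_
    obtain ⟨g, hgH, hg, hgx⟩ := (mem_cornerImage c).mp x.2
    set w := g * v * g⁻¹ with hw
    have hwm : w ∈ H ⊓ UG c := ⟨H.mul_mem (H.mul_mem hgH hv.1) (H.inv_mem hgH), conj_UG c hg hv.2⟩
    have e := congrArg (fun A : G => A.1.1 0 1) (show w * g = g * v by rw [hw, inv_mul_cancel_right])
    simp only [mul01 c hg, mul01 c (UG_le c hv.2), UU_diag c hwm.2, UU_diag c hv.2, one_mul, mul_one] at e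
    obtain ⟨h0, -, h11⟩ := diag_entries c hg
    rw [h11] at e
    set l := g.1.1 0 0
    have hsl : c.σ l ≠ 0 := (map_ne_zero c.σ).mpr h0
    have hwa : w.1.1 0 1 / a = l ^ 2 / c.σ l := by
      have hav' : v.1.1 0 1 = a := rfl
      rw [hav'] at e
      field_simp at e ⊢
      linear_combination e
    have hμ := hfix w hwm
    rw [hwa, mem_Fix, map_div₀, map_pow, c.invol, div_eq_div_iff h0 hsl] at hμ
    have hl3 : (l ^ 3) ^ (c.q - 1) = 1 := by
      have hq3 : (l ^ 3) ^ c.q = l ^ 3 := by rw [← c.hσ, map_pow]; linear_combination hμ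
      refine mul_right_cancel₀ (pow_ne_zero 3 h0) ?_
      rw [← pow_succ, show c.q - 1 + 1 = c.q by omega, hq3, one_mul]
    apply Subtype.ext
    apply Units.ext
    rw [SubgroupClass.coe_pow, Units.val_pow_eq_pow_val, ← hgx, pow_mul, hl3, OneMemClass.coe_one, Units.val_one]

include p in
/-- Odd `q`: the Borel part has even order. -/
theorem even_borel (hodd : Odd c.q) (H : Subgroup G) (hidx : H.index ≤ c.q ^ 3) :
    2 ∣ Nat.card (H ⊓ UG c : Subgroup G) * Nat.card (cornerImage c H) := by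
  classical
  obtain ⟨E⟩ := exists_iso c (n := 3)
  have h2 : 2 ∣ Nat.card H := by
    rw [(basic c p H hidx).1]
    exact dvd_mul_of_dvd_left (even_iff_two_dvd.mp (hodd.pow.add_one)) _
  haveI : Fact (Nat.Prime 2) := ⟨Nat.prime_two⟩
  obtain ⟨y, hy⟩ := exists_prime_orderOf_dvd_card' 2 h2
  have hy2 : (y : G) * y = 1 := by
    have := pow_orderOf_eq_one y
    rw [hy, pow_two] at this
    exact congrArg Subtype.val this
  have hy1 : (y : G) ≠ 1 := fun e => by
    rw [← Subgroup.orderOf_coe, e, orderOf_one] at hy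
    omega
  -- the diagonal involution
  set d := dg c (-1 : Fˣ) with hd
  have hpne : p ≠ 2 := fun e => by
    have := p_dvd_q c p
    rw [Nat.odd_iff] at hodd
    subst e
    omega
  have hF2 : (2 : F) ≠ 0 := fun h => hpne (by
    have h' : ((2 : ℕ) : F) = 0 := by exact_mod_cast h
    exact (Nat.prime_dvd_prime_iff_eq Fact.out Nat.prime_two).mp ((CharP.cast_eq_zero_iff F p 2).mp h'))
  have hd1 : d ≠ 1 := fun e => by
    have := congrArg (fun A : G => A.1.1 0 0) e
    simp [hd, dg, coe_one] at this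
    exact hF2 (by linear_combination -this)
  have hd2 : d * d = 1 := SUs_ext c (by
    rw [coe_mul, coe_one]
    ext i j
    fin_cases i <;> fin_cases j <;> simp [hd, dg])
  obtain ⟨hconj, -⟩ := Cfsg.Agent.S2360.result hodd c.card (E d) (fun e => hd1 (E.injective (by rw [e, map_one])))
    (by rw [← map_mul, hd2, map_one])
  obtain ⟨g, hg⟩ := hconj (E y) (fun e => hy1 (E.injective (by rw [e, map_one]))) (by rw [← map_mul, hy2, map_one])
  obtain ⟨k, rfl⟩ := E.surjective g
  rw [← map_inv, ← map_mul, ← map_mul] at hg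
  have hyk := E.injective hg
  obtain ⟨h, hh, b, hb, rfl⟩ := transitive c p H hidx k
  have hmem : h⁻¹ * (y : G) * h ∈ H ⊓ BG c := ⟨H.mul_mem (H.mul_mem (H.inv_mem hh) y.2) hh, by
    rw [← hyk, show h⁻¹ * (h * b * d * (h * b)⁻¹) * h = b * d * b⁻¹ by group]
    exact (BG c).mul_mem ((BG c).mul_mem hb (dg_mem c _)) ((BG c).inv_mem hb)⟩
  have ho : orderOf (⟨_, hmem⟩ : (H ⊓ BG c : Subgroup G)) = 2 := by
    rw [Subgroup.orderOf_mk, show h⁻¹ * (y : G) * h = MulAut.conj h⁻¹ (y : G) by simp,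
      (MulAut.conj h⁻¹).orderOf_eq, Subgroup.orderOf_coe, hy]
  rw [← card_inf_BG]
  exact ho ▸ orderOf_dvd_natCard _

include p in
/-- The homology bound. -/
theorem homology_bound (H : Subgroup G) (hidx : H.index ≤ c.q ^ 3) (hT : H ⊓ ZG c = ⊥)
    (l0 : Fˣ) (hl0 : l0 ∈ cornerImage c H) (hlq : l0 ^ (c.q + 1) = 1) (hl3 : l0 ^ 3 ≠ 1) :
    ∃ b, (c.q + 1) * Nat.card (cornerImage c H) ≤
        Nat.gcd 2 (c.q - 1) * b * Nat.card {x : Fˣ // x ∈ cornerImage c H ∧ x ^ (c.q + 1) = 1} ∧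
      Nat.gcd 2 (c.q - 1) * b ∣ c.q * (c.q ^ 2 - 1) ∧ ¬ p ∣ b ∧ (b ≤ c.q + 1 ∨ b = 12 ∨ b = 24 ∨ b = 60) := by
  classical
  have hp := (Fact.out : p.Prime)
  have hq1 := c.one_lt
  obtain ⟨g, hgH, hg, hgl⟩ := (mem_cornerImage c).mp hl0
  -- a homology of order prime to `p`
  have hgn : g ^ (c.q ^ 2 - 1) ∈ UG c := by
    refine mem_UG_of_corner c (pow_mem hg _) ?_
    rw [pow_corner c hg, hgl, ← Units.val_pow_eq_pow_val, ← card_units c, pow_card_eq_one', Units.val_one]
  obtain ⟨k, hk⟩ := exists_ppow c p hgn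
  set t := g ^ p ^ k with ht
  have htB : t ∈ BG c := pow_mem hg _
  have htH : t ∈ H := pow_mem hgH _
  have htn : t ^ (c.q ^ 2 - 1) = 1 := by rw [ht, ← pow_mul, mul_comm, pow_mul, hk]
  have htl : t.1.1 0 0 = ((l0 ^ p ^ k : Fˣ) : F) := by
    rw [ht, pow_corner c hg, hgl, Units.val_pow_eq_pow_val]
  have hN : t.1.1 0 0 * c.σ (t.1.1 0 0) = 1 := by
    rw [htl, c.hσ, ← Units.val_pow_eq_pow_val, ← Units.val_mul, ← pow_succ', ← pow_mul, mul_comm, pow_mul, hlq,
      one_pow, Units.val_one]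
  have h3 : t.1.1 0 0 ^ 3 ≠ 1 := fun e => hl3 (by
    rw [htl, ← Units.val_pow_eq_pow_val, Units.val_eq_one, ← pow_mul, mul_comm, pow_mul] at e
    have h2 : (l0 ^ 3) ^ (c.q + 1) = 1 := by rw [← pow_mul, mul_comm, pow_mul, hlq, one_pow]
    have h4 := pow_gcd_eq_one.mpr ⟨e, h2⟩
    rwa [((hp.coprime_iff_not_dvd.mpr (not_dvd_add_one p (p_dvd_q c p))).pow_left k).gcd_eq_one, pow_one] at h4)
  obtain ⟨u, hu, hdiag⟩ := exists_diag c p htB hN h3 htn (not_dvd_sq_sub_one c p)
  obtain ⟨w, hw⟩ : ∃ w, w = u * t * u⁻¹ := ⟨_, rfl⟩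
  rw [← hw] at hdiag
  obtain ⟨hl, t22, t11⟩ := diag_entries c htB
  have hwB : w ∈ BG c := hw ▸ mul_mem (mul_mem (UG_le c hu) htB) (inv_mem (UG_le c hu))
  have hwu : w * u = u * t := by rw [hw, inv_mul_cancel_right]
  have w00 : w.1.1 0 0 = t.1.1 0 0 := by
    have := congrArg (fun A : G => A.1.1 0 0) hwu
    simp only [mul00 c (UG_le c hu), mul00 c htB, UU_diag c hu, mul_one, one_mul] at this
    exact this
  obtain ⟨-, w22, w11⟩ := diag_entries c hwB
  rw [w00] at w22 w11
  rw [← t11] at w11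
  rw [eq_inv_of_mul_eq_one_right hN, inv_inv] at w22
  have hne : t.1.1 0 0 ≠ t.1.1 1 1 := fun e => h3 (by
    rw [t11, eq_inv_of_mul_eq_one_right hN] at e
    field_simp at e
    linear_combination e)
  -- the centraliser of the diagonal homology
  let M : Subgroup G := Subgroup.centralizer {w}
  have hM : ∀ y : G, y ∈ M ↔ y * w = w * y := fun y => Subgroup.mem_centralizer_singleton_iff
  have hMent : ∀ y ∈ M, y.1.1 0 1 = 0 ∧ y.1.1 1 0 = 0 ∧ y.1.1 1 2 = 0 ∧ y.1.1 2 1 = 0 := by
    intro y hy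
    have e : ∀ i j, (y * w).1.1 i j = (w * y).1.1 i j := fun i j => by rw [(hM y).mp hy]
    have key : ∀ i j, y.1.1 i j * w.1.1 j j = w.1.1 i i * y.1.1 i j := fun i j => by
      have := e i j
      rw [coe_mul, coe_mul, Matrix.mul_apply, Matrix.mul_apply, Finset.sum_eq_single j, Finset.sum_eq_single i] at this
      · exact this
      · intro l _ hli; rw [hdiag i l (Ne.symm hli), zero_mul]
      · simp
      · intro l _ hlj; rw [hdiag l j hlj, mul_zero]
      · simp
    have hsub := sub_ne_zero.mpr hne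
    refine ⟨?_, ?_, ?_, ?_⟩
    · have := key 0 1; rw [w00, w11] at this
      exact (mul_eq_zero.mp (by linear_combination -this : y.1.1 0 1 * (t.1.1 0 0 - t.1.1 1 1) = 0)).resolve_right hsub
    · have := key 1 0; rw [w00, w11] at this
      exact (mul_eq_zero.mp (by linear_combination this : y.1.1 1 0 * (t.1.1 0 0 - t.1.1 1 1) = 0)).resolve_right hsub
    · have := key 1 2; rw [w22, w11] at this
      exact (mul_eq_zero.mp (by linear_combination this : y.1.1 1 2 * (t.1.1 0 0 - t.1.1 1 1) = 0)).resolve_right hsub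
    · have := key 2 1; rw [w22, w11] at this
      exact (mul_eq_zero.mp (by linear_combination -this : y.1.1 2 1 * (t.1.1 0 0 - t.1.1 1 1) = 0)).resolve_right hsub
  obtain ⟨b0, hb, hb0⟩ := c.exists_antifixed
  have hwι : ∀ x, emb2 c hb hb0 x ∈ M := by
    intro x
    rw [hM]
    refine SUs_ext c (Matrix.ext fun i j => ?_)
    rw [coe_mul, coe_mul]
    fin_cases i <;> fin_cases j <;>
      simp [Matrix.mul_apply, Fin.sum_univ_three, emb2, hdiag, w00, w22, mul_comm]
  set C0 : Subgroup G := H ⊓ Subgroup.centralizer {t} with hC0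
  set N := c.q ^ 3 + 1 with hNdef
  set s := Nat.card (H ⊓ UG c : Subgroup G)
  set cc := Nat.card (cornerImage c H) with hcc
  -- counting the fixed points of the conjugates
  have hcount : (c.q + 1) * cc ≤ Nat.card C0 := by
    let P := {hx : H × (G ⧸ BG c) // ((hx.1 : G) * t * (hx.1 : G)⁻¹) • hx.2 = hx.2}
    let Mx : Fix c → Matrix.SpecialLinearGroup (Fin 2) (Fix c) := fun x =>
      ⟨!![x, -1; 1, 0], by simp [Matrix.det_fin_two]⟩
    let pts : Option (Fix c) → G := fun o => u⁻¹ *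
      match o with
      | none => 1
      | some x => emb2 c hb hb0 ⟨!![x, -1; 1, 0], by simp [Matrix.det_fin_two]⟩
    have hlow : Nat.card H * (c.q + 1) ≤ Nat.card P := by
      have hO : Nat.card (H × Option (Fix c)) = Nat.card H * (c.q + 1) := by
        haveI : Fintype (Fix c) := Fintype.ofFinite _
        rw [Nat.card_prod, Nat.card_eq_fintype_card (α := Option (Fix c)), Fintype.card_option,
          ← Nat.card_eq_fintype_card, card_Fix c hb hb0]
      rw [← hO]
      refine Nat.card_le_card_of_injective (fun a => ⟨(a.1, (((a.1 : G) * pts a.2 : G) : G ⧸ BG c)), ?_⟩) ?_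
      · obtain ⟨h, o⟩ := a
        show ((((h : G) * t * (h : G)⁻¹) * ((h : G) * pts o) : G) : G ⧸ BG c) = (((h : G) * pts o : G) : G ⧸ BG c)
        rw [QuotientGroup.eq, show (((h : G) * t * (h : G)⁻¹) * ((h : G) * pts o))⁻¹ * ((h : G) * pts o) =
          ((pts o)⁻¹ * t * pts o)⁻¹ by group]
        refine inv_mem ?_
        rcases o with _ | x
        · show (u⁻¹ * 1)⁻¹ * t * (u⁻¹ * 1) ∈ BG c
          rw [mul_one, inv_inv, ← hw]; exact hwB
        · set e := emb2 c hb hb0 ⟨!![x, -1; 1, 0], by simp [Matrix.det_fin_two]⟩ with he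
          show (u⁻¹ * e)⁻¹ * t * (u⁻¹ * e) ∈ BG c
          rw [show (u⁻¹ * e)⁻¹ * t * (u⁻¹ * e) = e⁻¹ * (w * e) by rw [hw]; group,
            ← (hM e).mp (hwι _), inv_mul_cancel_left]
          exact hwB
      · rintro ⟨h, o⟩ ⟨h', o'⟩ e
        have e1 : h = h' := congrArg (fun y : P => y.1.1) e
        subst e1
        have e2 : (((h : G) * pts o : G) : G ⧸ BG c) = (((h : G) * pts o' : G) : G ⧸ BG c) :=
          congrArg (fun y : P => y.1.2) e
        rw [QuotientGroup.eq, show ((h : G) * pts o)⁻¹ * ((h : G) * pts o') = (pts o)⁻¹ * pts o' by group] at e2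
        have hE : ∀ y, emb2 c hb hb0 y ∈ BG c → y.1 1 0 = 0 := fun y hy => by
          have := ((mem_BG_iff c).mp hy).2.1
          simpa [emb2, hb] using this
        rcases o with _ | x <;> rcases o' with _ | x'
        · rfl
        · exfalso
          simp only [pts, mul_one, inv_inv, mul_inv_cancel_left] at e2
          simpa using hE _ e2
        · exfalso
          simp only [pts, mul_one, _root_.mul_inv_rev, inv_inv, inv_mul_cancel_right, mul_assoc, mul_inv_cancel] at e2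
          simpa [Dickson.inv_entries] using hE _ (inv_mem_iff.mp e2)
        · simp only [pts, _root_.mul_inv_rev, inv_inv, mul_assoc, mul_inv_cancel_left] at e2
          have := hE ((Mx x)⁻¹ * Mx x') (by rw [map_mul, map_inv]; exact e2)
          rw [Dickson.mul_entry] at this
          obtain ⟨-, -, i10, i11⟩ := Dickson.inv_entries (Mx x)
          rw [i10, i11] at this
          simp [Mx] at this
          rw [show x = x' by linear_combination this]
    have hup : Nat.card P ≤ N * (s * Nat.card C0) := by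
      have hout : ∀ x : G ⧸ BG c, ∃ h : H, ((h : G) : G ⧸ BG c) = x := by
        intro x
        obtain ⟨g, rfl⟩ := QuotientGroup.mk_surjective x
        obtain ⟨h, hh, b, hb', rfl⟩ := transitive c p H hidx g
        exact ⟨⟨h, hh⟩, QuotientGroup.eq.mpr (by simpa using hb')⟩
      choose hf hhf using hout
      let X := {h : H // (h : G) * t * (h : G)⁻¹ ∈ BG c}
      have hN' : Nat.card (G ⧸ BG c) = N := index_BG c p
      refine le_trans (Nat.card_le_card_of_injective (β := (G ⧸ BG c) × X) (fun y => (y.1.2, ⟨(hf y.1.2)⁻¹ * y.1.1, ?_⟩)) ?_) ?_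
      · obtain ⟨⟨h, x⟩, hy⟩ := y
        have h1 := hy
        rw [← hhf x] at h1
        have h2 : ((((h : G) * t * (h : G)⁻¹) * (hf x : G) : G) : G ⧸ BG c) = ((hf x : G) : G ⧸ BG c) := h1
        have h3 := QuotientGroup.eq.mp h2.symm
        show ((hf x)⁻¹ * h : H).1 * t * (((hf x)⁻¹ * h : H).1)⁻¹ ∈ BG c
        convert h3 using 1
        simp only [Subgroup.coe_mul, Subgroup.coe_inv]
        group
      · rintro ⟨⟨h, x⟩, hy⟩ ⟨⟨h', x'⟩, hy'⟩ e
        simp only [Prod.mk.injEq, Subtype.mk.injEq] at e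
        obtain ⟨rfl, e⟩ := e
        have e' : (hf x)⁻¹ * h = (hf x)⁻¹ * h' := congrArg Subtype.val e
        obtain rfl := mul_left_cancel e'
        rfl
      rw [Nat.card_prod, hN']
      refine Nat.mul_le_mul_left _ ?_
      -- at most `s` conjugates in the Borel subgroup, each with a coset of the centraliser
      have hkey : ∀ h : X, ((h.1 : G) * t * (h.1 : G)⁻¹) * t⁻¹ ∈ H ⊓ UG c := fun h => by
        refine ⟨H.mul_mem (H.mul_mem (H.mul_mem h.1.2 htH) (H.inv_mem h.1.2)) (H.inv_mem htH), ?_⟩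
        refine mem_UG_of_corner c (mul_mem h.2 (inv_mem htB)) ?_
        rw [mul00 c (inv_mem htB), corner_of_conj c htB h.2 hN h3, ← mul00 c (inv_mem htB), mul_inv_cancel, coe_one,
          Matrix.one_apply_eq]
      let π : X → (H ⊓ UG c : Subgroup G) := fun h => ⟨_, hkey h⟩
      haveI : Fintype X := Fintype.ofFinite _
      haveI : Fintype (H ⊓ UG c : Subgroup G) := Fintype.ofFinite _
      rw [show s = Fintype.card (H ⊓ UG c : Subgroup G) from Nat.card_eq_fintype_card, Nat.card_eq_fintype_card (α := X),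
        ← Finset.card_univ, ← Finset.card_univ, mul_comm]
      refine Finset.card_le_mul_card_image_of_maps_to (f := π) (fun a _ => Finset.mem_univ _) (Nat.card C0) fun v _ => ?_
      by_cases hv : ∃ h, π h = v
      · obtain ⟨h0, hh0⟩ := hv
        haveI : Fintype C0 := Fintype.ofFinite _
        rw [Nat.card_eq_fintype_card, ← Finset.card_univ]
        refine Finset.card_le_card_of_injOn
          (fun h => if hc : (h0.1 : G)⁻¹ * (h.1 : G) ∈ C0 then (⟨_, hc⟩ : C0) else 1) (fun h _ => by simp) ?_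
        intro a ha a' ha' e
        have hmem : ∀ h ∈ Finset.univ.filter (fun h => π h = v), (h0.1 : G)⁻¹ * (h.1 : G) ∈ C0 := fun h hh => by
          have e1 := congrArg Subtype.val ((Finset.mem_filter.mp hh).2.trans hh0.symm)
          have e2 : (h.1 : G) * t * (h.1 : G)⁻¹ = (h0.1 : G) * t * (h0.1 : G)⁻¹ := mul_right_cancel e1
          refine ⟨H.mul_mem (H.inv_mem h0.1.2) h.1.2, Subgroup.mem_centralizer_singleton_iff.mpr ?_⟩
          calc (h0.1 : G)⁻¹ * (h.1 : G) * t = (h0.1 : G)⁻¹ * ((h.1 : G) * t * (h.1 : G)⁻¹) * (h.1 : G) := by group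
            _ = t * ((h0.1 : G)⁻¹ * (h.1 : G)) := by rw [e2]; group
        simp only [dif_pos (hmem a (Finset.mem_coe.mp ha)), dif_pos (hmem a' (Finset.mem_coe.mp ha'))] at e
        exact Subtype.ext (Subtype.ext (mul_left_cancel (congrArg Subtype.val e)))
      · push Not at hv
        rw [Finset.filter_false_of_mem (fun h _ => hv h), Finset.card_empty]
        exact Nat.zero_le _
    have h1 := hlow.trans hup
    rw [(basic c p H hidx).1] at h1
    have hpos : 0 < N * s := Nat.mul_pos (Nat.succ_pos _) Nat.card_pos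
    refine Nat.le_of_mul_le_mul_left ?_ hpos
    calc N * s * ((c.q + 1) * cc) = N * (s * cc) * (c.q + 1) := by ring
      _ ≤ N * (s * Nat.card C0) := h1
      _ = N * s * Nat.card C0 := by ring
  -- the conjugate centraliser
  let C : Subgroup G := C0.map (MulAut.conj u).toMonoidHom
  have hCc : Nat.card C = Nat.card C0 :=
    Nat.card_congr (Subgroup.equivMapOfInjective _ _ (MulAut.conj u).injective).toEquiv.symm
  have hCM : C ≤ M := by
    rintro _ ⟨y, hy, rfl⟩
    rw [hM]
    have := Subgroup.mem_centralizer_singleton_iff.mp hy.2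
    simp only [MulEquiv.coe_toMonoidHom, MulAut.conj_apply, hw]
    calc u * y * u⁻¹ * (u * t * u⁻¹) = u * (y * t) * u⁻¹ := by group
      _ = u * t * u⁻¹ * (u * y * u⁻¹) := by rw [this]; group
  have hpC : ¬ p ∣ Nat.card C0 := by
    intro hd
    obtain ⟨y', hyo⟩ := exists_prime_orderOf_dvd_card' p hd
    obtain ⟨y, hy, rfl⟩ : ∃ y, ∃ hy : y ∈ C0, y' = ⟨y, hy⟩ := ⟨y'.1, y'.2, rfl⟩
    rw [Subgroup.orderOf_mk] at hyo
    obtain ⟨hyH, hyC⟩ := hy
    have hP : IsPGroup p (Subgroup.zpowers y) := IsPGroup.of_card (n := 1) (by rw [Nat.card_zpowers, hyo, pow_one])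
    obtain ⟨x, hx⟩ := hP.nonempty_fixed_point_of_prime_not_dvd_card (G ⧸ BG c) (by
      show ¬ p ∣ (BG c).index
      rw [index_BG c p]
      exact not_dvd_add_one p ((p_dvd_q c p).trans (dvd_pow_self _ three_ne_zero)))
    obtain ⟨z, rfl⟩ := QuotientGroup.mk_surjective x
    have hx' : ((y * z : G) : G ⧸ BG c) = (z : G ⧸ BG c) := hx ⟨y, Subgroup.mem_zpowers y⟩
    have hxb := QuotientGroup.eq.mp hx'.symm
    obtain ⟨h, hh, b, hb', rfl⟩ := transitive c p H hidx z
    set y' := h⁻¹ * y * h with hy'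
    have hy'B : y' ∈ BG c := by
      have := mul_mem (mul_mem hb' hxb) (inv_mem hb')
      convert this using 1
      rw [hy']; group
    have hyp' : y' ^ p ^ 1 = 1 := by
      rw [hy', pow_one, show h⁻¹ * y * h = MulAut.conj h⁻¹ y by simp, ← map_pow, ← hyo, pow_orderOf_eq_one, map_one]
    have hy'U := mem_UG_of_ppow c p hy'B hyp'
    have hy'1 : y' ≠ 1 := fun e => by
      have : y = 1 := by
        calc y = h * y' * h⁻¹ := by rw [hy']; group
          _ = 1 := by rw [e, mul_one, mul_inv_cancel]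
      rw [this, orderOf_one] at hyo
      exact hp.ne_one hyo.symm
    set t' := h⁻¹ * t * h with ht'
    have hc' : y' * t' = t' * y' := by
      rw [hy', ht']
      calc h⁻¹ * y * h * (h⁻¹ * t * h) = h⁻¹ * (y * t) * h := by group
        _ = h⁻¹ * t * h * (h⁻¹ * y * h) := by rw [Subgroup.mem_centralizer_singleton_iff.mp hyC]; group
    have ht'B : t' ∈ BG c := ti c hy'U hy'1 (by
      rw [mul_assoc, hc', inv_mul_cancel_left]; exact hy'U)
    have ht'00 : t'.1.1 0 0 = t.1.1 0 0 := by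
      have hrw : t' = h⁻¹ * t * h⁻¹⁻¹ := by rw [ht', inv_inv]
      rw [hrw]
      exact corner_of_conj c htB (hrw ▸ ht'B) hN h3
    obtain ⟨-, -, t'11⟩ := diag_entries c ht'B
    rw [ht'00, ← t11] at t'11
    have e := congrArg (fun A : G => A.1.1 0 1) hc'
    simp only [mul01 c ht'B, mul01 c (UG_le c hy'U), UU_diag c hy'U, ht'00, t'11] at e
    refine hy'1 (no_transvection_UG c p H hT ⟨H.mul_mem (H.mul_mem (H.inv_mem hh) hyH) hh, hy'U⟩ ?_)
    exact (mul_eq_zero.mp (by linear_combination -e : y'.1.1 0 1 * (t.1.1 0 0 - t.1.1 1 1) = 0)).resolve_right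
      (sub_ne_zero.mpr hne)
  -- join with the homologies of the centre
  let U1 : Subgroup Fˣ := (powMonoidHom (c.q + 1)).ker
  have hU1 : ∀ x : Fˣ, x ∈ U1 ↔ x ^ (c.q + 1) = 1 := fun x => Iff.rfl
  have hU1c : Nat.card U1 = c.q + 1 := by
    rw [IsCyclic.card_powMonoidHom_ker, card_units c]
    refine Nat.gcd_eq_right ⟨c.q - 1, ?_⟩
    rw [← one_pow 2, Nat.sq_sub_sq, one_pow]
  have hk : ∀ x : U1, (dg c x.1).1.1 = Matrix.diagonal ![(x.1 : F), (x.1 : F)⁻¹ ^ 2, (x.1 : F)] := by
    intro x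
    have hx : (x.1 : F) * c.σ (x.1 : F) = 1 := by
      rw [c.hσ, ← pow_succ', ← Units.val_pow_eq_pow_val, (hU1 x.1).mp x.2, Units.val_one]
    rw [show c.σ (x.1 : F) = (x.1 : F)⁻¹ from eq_inv_of_mul_eq_one_right hx ▸ rfl] at *
    show Matrix.diagonal ![(x.1 : F), c.σ (x.1 : F) / x.1, (c.σ (x.1 : F))⁻¹] = _
    rw [eq_inv_of_mul_eq_one_right (show (x.1 : F) * c.σ (x.1 : F) = 1 by
      rw [c.hσ, ← pow_succ', ← Units.val_pow_eq_pow_val, (hU1 x.1).mp x.2, Units.val_one]), inv_inv,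
      div_eq_mul_inv, ← pow_two]
  have hcom : ∀ (y : C) (x : U1), (y : G) * dg c x.1 = dg c x.1 * y := by
    intro y x
    obtain ⟨a1, a2, a3, a4⟩ := hMent _ (hCM y.2)
    refine SUs_ext c (Matrix.ext fun i j => ?_)
    rw [coe_mul, coe_mul, hk x, Matrix.mul_diagonal, Matrix.diagonal_mul]
    fin_cases i <;> fin_cases j <;> simp [a1, a2, a3, a4, mul_comm]
  have hdg : ∀ x y : Fˣ, dg c (x * y) = dg c x * dg c y := fun x y => SUs_ext c (by
    rw [coe_mul]
    show Matrix.diagonal _ = Matrix.diagonal _ * Matrix.diagonal _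
    rw [Matrix.diagonal_mul_diagonal]
    congr 1
    ext i
    fin_cases i <;> simp [map_mul] <;> field_simp)
  let ψ : C × U1 →* G :=
    { toFun := fun a => (a.1 : G) * dg c a.2.1
      map_one' := SUs_ext c (by
        rw [coe_mul, hk]
        ext i j
        fin_cases i <;> fin_cases j <;> simp [coe_one])
      map_mul' := fun a b => by
        show ((a.1 : G) * b.1) * dg c (a.2.1 * b.2.1) = _
        rw [hdg]
        simp only [mul_assoc]
        rw [← mul_assoc (b.1 : G), hcom b.1 a.2, mul_assoc] }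
  have hψent : ∀ y ∈ ψ.range, y.1.1 0 1 = 0 ∧ y.1.1 1 0 = 0 ∧ y.1.1 1 2 = 0 ∧ y.1.1 2 1 = 0 := by
    rintro _ ⟨⟨y, x⟩, rfl⟩
    obtain ⟨a1, a2, a3, a4⟩ := hMent _ (hCM y.2)
    show ((y : G) * dg c x.1).1.1 0 1 = 0 ∧ ((y : G) * dg c x.1).1.1 1 0 = 0 ∧
      ((y : G) * dg c x.1).1.1 1 2 = 0 ∧ ((y : G) * dg c x.1).1.1 2 1 = 0
    rw [coe_mul, hk x]
    simp [Matrix.mul_diagonal, a1, a2, a3, a4]
  let D := ψ.range.comap (emb2 c hb hb0)
  have hDdvd : Nat.card D ∣ Nat.card C0 * (c.q + 1) := by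
    rw [← hCc, ← hU1c, ← Nat.card_prod]
    exact ((Subgroup.card_comap_dvd_of_injective ψ.range _ (emb2_inj c hb hb0))).trans (Subgroup.card_range_dvd ψ)
  have hpD : ¬ p ∣ Nat.card D := fun h => by
    rcases hp.dvd_mul.mp (h.trans hDdvd) with h | h
    · exact hpC h
    · exact not_dvd_add_one p (p_dvd_q c p) h
  have hrange : Nat.card ψ.range ≤ (c.q + 1) * Nat.card D := by
    let α : ψ.range →* Fˣ :=
      MonoidHom.toHomUnits
        { toFun := fun y => y.1.1.1 1 1
          map_one' := by simp [coe_one]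
          map_mul' := fun y z => by
            obtain ⟨-, a2, a3, -⟩ := hψent _ y.2
            simp [coe_mul, Matrix.mul_apply, Fin.sum_univ_three, a2, a3] }
    have hα : α.range ≤ U1 := by
      rintro _ ⟨y, rfl⟩
      obtain ⟨-, a2, a3, -⟩ := hψent _ y.2
      rw [hU1]
      apply Units.ext
      rw [Units.val_pow_eq_pow_val, Units.val_one, pow_succ', ← c.hσ]
      have e := cond_apply c y.1.2 1 1
      simp [Fin.sum_univ_three, Fin.rev, a2, a3] at e
      exact e
    rw [← α.ker.card_mul_index, Subgroup.index_ker, mul_comm (c.q + 1)]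
    refine Nat.mul_le_mul ?_ (hU1c ▸ Nat.le_of_dvd Nat.card_pos (Subgroup.card_dvd_of_le hα))
    have hker : ∀ y : α.ker, y.1.1 ∈ (emb2 c hb hb0).range := fun y => by
      obtain ⟨a1, a2, a3, a4⟩ := hψent _ y.1.2
      exact emb2_range c hb hb0 a1 a2 a3 a4 (congrArg Units.val y.2)
    choose f hf using hker
    refine Nat.card_le_card_of_injective (fun y => (⟨f y, show emb2 c hb hb0 (f y) ∈ ψ.range from
      (hf y).symm ▸ y.1.2⟩ : D)) fun y y' e => ?_
    have := congrArg (fun z : D => emb2 c hb hb0 z.1) e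
    simp only [hf] at this
    exact Subtype.ext (Subtype.ext this)
  have hker : Nat.card ψ.ker ≤ Nat.card {x : Fˣ // x ∈ cornerImage c H ∧ x ^ (c.q + 1) = 1} := by
    have hmem : ∀ a : ψ.ker, a.1.2.1⁻¹ ∈ cornerImage c H := by
      rintro ⟨⟨⟨_, y, hy, rfl⟩, x⟩, ha⟩
      rw [mem_cornerImage]
      have e : u * y * u⁻¹ * dg c x.1 = 1 := ha
      have e' := eq_inv_of_mul_eq_one_left e
      have hyB : y ∈ BG c := by
        have : y = u⁻¹ * (dg c x.1)⁻¹ * u := by rw [← e']; group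
        rw [this]
        exact mul_mem (mul_mem (inv_mem (UG_le c hu)) (inv_mem (dg_mem c _))) (UG_le c hu)
      refine ⟨y, hy.1, hyB, ?_⟩
      have e2 := congrArg (fun A : G => A.1.1 0 0) (show u * y = (dg c x.1)⁻¹ * u by rw [← e', inv_mul_cancel_right])
      simp only [mul00 c hyB, mul00 c (UG_le c hu), UU_diag c hu, one_mul, mul_one] at e2
      rw [e2]
      exact congrArg (fun A : Fˣ => (A : F)) (show corner c ⟨_, inv_mem (dg_mem c x.1)⟩ = x.1⁻¹ by
        rw [show (⟨_, inv_mem (dg_mem c x.1)⟩ : BG c) = (⟨_, dg_mem c x.1⟩ : BG c)⁻¹ from rfl, map_inv]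
        exact congrArg Inv.inv (Units.ext (by simp [corner, dg])))
    refine Nat.card_le_card_of_injective (fun a => ⟨a.1.2.1⁻¹, hmem a, by
      rw [inv_pow, (hU1 _).mp a.1.2.2, inv_one]⟩) fun a b e => ?_
    have e1 : a.1.2 = b.1.2 := Subtype.ext (inv_injective (congrArg Subtype.val e))
    have e2 : (a.1.1 : G) * dg c a.1.2.1 = (b.1.1 : G) * dg c b.1.2.1 :=
      (show ψ a.1 = 1 from a.2).trans (show ψ b.1 = 1 from b.2).symm
    rw [e1] at e2
    exact Subtype.ext (Prod.ext (Subtype.ext (mul_right_cancel e2)) e1)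
  haveI : Fintype (Fix c) := Fintype.ofFinite _
  haveI : CharP (Fix c) p := (Fix c).subtype.charP (Subtype.val_injective) p
  obtain ⟨b, hb1, hb2, hb3, hb4⟩ := sl2_bound p D hpD
  have hQ : Fintype.card (Fix c) = c.q := by rw [← Nat.card_eq_fintype_card, card_Fix c hb hb0]
  rw [hQ] at hb1 hb4
  refine ⟨b, ?_, ?_, hb3, hb4⟩
  · have h1 := ψ.ker.card_mul_index
    rw [Subgroup.index_ker, Nat.card_prod, hCc, hU1c] at h1
    refine Nat.le_of_mul_le_mul_right ?_ (Nat.succ_pos c.q)
    calc (c.q + 1) * cc * (c.q + 1) ≤ Nat.card C0 * (c.q + 1) := Nat.mul_le_mul_right _ hcount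
      _ = Nat.card ψ.ker * Nat.card ψ.range := h1.symm
      _ ≤ _ * ((c.q + 1) * (Nat.gcd 2 (c.q - 1) * b)) :=
          Nat.mul_le_mul hker (hrange.trans (Nat.mul_le_mul_left _ hb1))
      _ = _ := by rw [Nat.succ_eq_add_one]; ring
  · have h := DicksonFull.card_psl (F := Fix c)
    rw [hQ] at h
    exact h ▸ Nat.mul_dvd_mul_left _ hb2

end CfsgLib.PSU3Min
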